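import Cfsg.Agent.Lib.SLComm23.Segs

/-!
Decomposition of a space into companion blocks.
-/

set_option autoImplicit false

namespace Cfsg.Agent.SLComm23

open Polynomial DirectSum

variable {F V : Type*} [Field F] [AddCommGroup V] [Module F V]

/-- The span of a list of blocks. -/
def spanL {g : V →ₗ[F] V} : List (Block g) → Submodule F V
  | [] => ⊥
  | b :: L => b.span ⊔ spanL L

/-- The total size of a list of blocks. -/
def dimL {g : V →ₗ[F] V} (L : List (Block g)) : ℕ := (L.map Block.d).sum

theorem le_spanL {g : V →ₗ[F] V} {L : List (Block g)} {b : Block g} (h : b ∈ L) : b.span ≤ spanL L := by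
  induction L with
  | nil => simp at h
  | cons a L ih =>
    rcases List.mem_cons.1 h with rfl | h
    · exact le_sup_left
    · exact (ih h).trans le_sup_right

theorem spanL_le {g : V →ₗ[F] V} {L : List (Block g)} {S : Submodule F V} (h : ∀ b ∈ L, b.span ≤ S) :
    spanL L ≤ S := by
  induction L with
  | nil => exact bot_le
  | cons a L ih => exact sup_le (h a (by simp)) (ih fun b hb => h b (by simp [hb]))

theorem spanL_perm {g : V →ₗ[F] V} {L L' : List (Block g)} (h : L.Perm L') : spanL L = spanL L' :=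
  le_antisymm (spanL_le fun b hb => le_spanL (h.mem_iff.1 hb))
    (spanL_le fun b hb => le_spanL (h.mem_iff.2 hb))

theorem dimL_perm {g : V →ₗ[F] V} {L L' : List (Block g)} (h : L.Perm L') : dimL L = dimL L' :=
  (h.map _).sum_nat

theorem block_one {g : V →ₗ[F] V} (b : Block g) (h : b.d = 1) :
    g b.w = b.c • b.w ∧ b.span = Submodule.span F {b.w} := by
  constructor
  · have := b.htop
    rw [h, Set.Ico_self, Set.image_empty, Submodule.span_empty, Submodule.mem_bot, sub_eq_zero,
      pow_one] at this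
    exact this
  · rw [Block.span, h]
    congr 1
    ext x
    constructor
    · rintro ⟨i, hi, rfl⟩
      change i < 1 at hi
      rw [show i = 0 by omega]; simp
    · rintro rfl
      exact ⟨0, show 0 < 1 by omega, by simp⟩

/-- Two scalar blocks with different eigenvalues form a block of size two. -/
theorem merge_ones {g : V →ₗ[F] V} (a b : Block g) (ha : a.d = 1) (hb : b.d = 1) (hne : a.c ≠ b.c) :
    ∃ m : Block g, m.d = 2 ∧ a.span ⊔ b.span ≤ m.span := by
  obtain ⟨hga, hsa⟩ := block_one a ha
  obtain ⟨hgb, hsb⟩ := block_one b hb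
  have h1 : g (a.w + b.w) = a.c • a.w + b.c • b.w := by rw [map_add, hga, hgb]
  have h2 : (g ^ 2) (a.w + b.w) = (a.c * a.c) • a.w + (b.c * b.c) • b.w := by
    rw [pow_succ', pow_one, Module.End.mul_apply, h1, map_add, map_smul, map_smul, hga, hgb, smul_smul,
      smul_smul]
  refine ⟨⟨2, a.w + b.w, -(a.c * b.c), by omega, neg_ne_zero.2 (mul_ne_zero a.hc b.hc), ?_⟩, rfl, ?_⟩
  · have h : (g ^ 2) (a.w + b.w) - -(a.c * b.c) • (a.w + b.w) = (a.c + b.c) • (g ^ 1) (a.w + b.w) := by
      rw [h2, pow_one, h1]; module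
    rw [h]
    exact Submodule.smul_mem _ _ (Submodule.subset_span ⟨1, ⟨le_rfl, by omega⟩, rfl⟩)
  · have m0 : a.w + b.w ∈ Submodule.span F ((fun i => (g ^ i) (a.w + b.w)) '' Set.Iio 2) :=
      Submodule.subset_span ⟨0, show 0 < 2 by omega, by simp⟩
    have m1 : g (a.w + b.w) ∈ Submodule.span F ((fun i => (g ^ i) (a.w + b.w)) '' Set.Iio 2) :=
      Submodule.subset_span ⟨1, show 1 < 2 by omega, by simp⟩
    rw [h1] at m1
    have m2 := Submodule.sub_mem _ m1 (Submodule.smul_mem _ b.c m0)
    rw [show a.c • a.w + b.c • b.w - b.c • (a.w + b.w) = (a.c - b.c) • a.w by module] at m2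
    have ma := (Submodule.smul_mem_iff _ (sub_ne_zero.2 hne)).1 m2
    have mb := Submodule.sub_mem _ m0 ma
    rw [add_sub_cancel_left] at mb
    rw [hsa, hsb]
    exact sup_le (Submodule.span_le.2 (Set.singleton_subset_iff.2 ma))
      (Submodule.span_le.2 (Set.singleton_subset_iff.2 mb))

theorem exists_blocks [FiniteDimensional F V] (g : V →ₗ[F] V) (hg : Function.Injective g) :
    ∃ L : List (Block g), dimL L = Module.finrank F V ∧ spanL L = ⊤ := by
  classical
  haveI : Module.Finite F[X] (Module.AEval' g) := inferInstance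
  obtain ⟨ι, _, p, hp, e, ⟨Φ⟩⟩ := Module.equiv_directSum_of_isTorsion
    (Module.AEval.isTorsion_of_finiteDimensional F V g)
  let π : ∀ i, V →ₗ[F] AdjoinRoot (p i ^ e i) := fun i =>
    { toFun := fun v => (Φ (Module.AEval'.of g v) i :)
      map_add' := fun u v => by simp only [map_add, DirectSum.add_apply]; rfl
      map_smul' := fun c v => by
        simp only [map_smul, RingHom.id_apply]
        rw [← algebraMap_smul F[X] c (Module.AEval'.of g v), map_smul]
        rw [show (algebraMap F F[X] c • Φ (Module.AEval'.of g v)) i =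
          algebraMap F F[X] c • (Φ (Module.AEval'.of g v) i) from rfl, algebraMap_smul]
        rfl }
  have hπA : ∀ i v, π i (g v) = AdjoinRoot.root (p i ^ e i) * π i v := by
    intro i v
    show (Φ (Module.AEval'.of g (g v)) i :) = _
    rw [← Module.AEval'.X_smul_of, map_smul]
    show (Polynomial.X : F[X]) • (Φ (Module.AEval'.of g v) i) = _
    obtain ⟨Q, hQ⟩ := Submodule.Quotient.mk_surjective _ (Φ (Module.AEval'.of g v) i)
    have hQ' : π i v = AdjoinRoot.mk (p i ^ e i) Q := hQ.symm
    rw [hQ', ← AdjoinRoot.mk_X, ← map_mul, ← hQ]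
    rfl
  have hπpow : ∀ i v (m : ℕ), π i ((g ^ m) v) = AdjoinRoot.root (p i ^ e i) ^ m * π i v := by
    intro i v m
    induction m with
    | zero => simp
    | succ m ih => rw [pow_succ', Module.End.mul_apply, hπA, ih, pow_succ', mul_assoc]
  have hinj : Function.Injective (LinearMap.pi π) := by
    rw [injective_iff_map_eq_zero]
    intro v hv
    have : Φ (Module.AEval'.of g v) = 0 := DFinsupp.ext fun i => (congrFun hv i : _)
    simpa using this
  have hsur : Function.Surjective (LinearMap.pi π) := by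
    intro a
    obtain ⟨v, hv⟩ := (Module.AEval'.of g).surjective (Φ.symm ((DirectSum.linearEquivFunOnFintype F[X] ι
      (fun i => F[X] ⧸ F[X] ∙ p i ^ e i)).symm a))
    refine ⟨v, funext fun i => ?_⟩
    show Φ (Module.AEval'.of g v) i = a i
    rw [hv, LinearEquiv.apply_symm_apply]
    exact congrFun ((DirectSum.linearEquivFunOnFintype F[X] ι
      (fun i => F[X] ⧸ F[X] ∙ p i ^ e i)).apply_symm_apply a) i
  let E := LinearEquiv.ofBijective (LinearMap.pi π) ⟨hinj, hsur⟩
  have hE : ∀ v i, E v i = π i v := fun v i => rfl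
  have hne : ∀ i, p i ^ e i ≠ 0 := fun i => pow_ne_zero _ (hp i).ne_zero
  obtain ⟨w, hw⟩ : ∃ w : ι → V, ∀ i, w i = E.symm (Pi.single i 1) := ⟨_, fun _ => rfl⟩
  have hwpow : ∀ i m, E ((g ^ m) (w i)) = Pi.single i (AdjoinRoot.root (p i ^ e i) ^ m) := by
    intro i m
    funext j
    rw [hE, hπpow, ← hE, hw, E.apply_symm_apply]
    by_cases h : j = i
    · subst h; simp
    · rw [Pi.single_eq_of_ne h, Pi.single_eq_of_ne h, mul_zero]
  obtain ⟨d, hd⟩ : ∃ d : ι → ℕ, ∀ i, d i = (p i ^ e i).natDegree := ⟨_, fun _ => rfl⟩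
  have hblock : ∀ i, 0 < d i → ∃ b : Block g, b.d = d i ∧ b.w = w i := by
    intro i hi
    obtain ⟨f, hf⟩ : ∃ f, f = p i ^ e i := ⟨_, rfl⟩
    have hfd : f.natDegree = d i := by rw [hd, hf]
    have hlc : f.leadingCoeff ≠ 0 := leadingCoeff_ne_zero.2 (hf ▸ hne i)
    have hsum : ∑ m ∈ Finset.range (d i + 1), f.coeff m • (g ^ m) (w i) = 0 := by
      refine E.injective ?_
      rw [map_sum, map_zero]
      simp only [map_smul, hwpow]
      have h0 : aeval (AdjoinRoot.root (p i ^ e i)) f = 0 := by
        rw [hf, AdjoinRoot.aeval_eq, AdjoinRoot.mk_self]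
      rw [aeval_eq_sum_range, hfd] at h0
      funext j
      rw [Finset.sum_apply]
      by_cases h : j = i
      · subst h
        simpa using h0
      · exact Finset.sum_eq_zero fun m _ => by
          rw [Pi.smul_apply, Pi.single_eq_of_ne h, smul_zero]
    have hwne : w i ≠ 0 := by
      intro h
      have h1 := congrFun (congrArg E h) i
      rw [hw, E.apply_symm_apply, map_zero, Pi.single_eq_same, Pi.zero_apply, ← map_one (AdjoinRoot.mk _),
        AdjoinRoot.mk_eq_zero, ← isUnit_iff_dvd_one] at h1
      have := natDegree_eq_zero_of_isUnit h1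
      rw [← hd] at this
      omega
    have hf0 : f.coeff 0 ≠ 0 := by
      intro h0
      rw [hf, coeff_zero_eq_eval_zero, eval_pow, ← coeff_zero_eq_eval_zero] at h0
      have hp0 : (p i).coeff 0 = 0 := eq_zero_of_pow_eq_zero h0
      obtain ⟨r, hr⟩ := Polynomial.X_dvd_iff.2 hp0
      have hr' : IsUnit r := ((hp i).isUnit_or_isUnit hr).resolve_left not_isUnit_X
      have hdvd : p i ^ e i ∣ X ^ e i := by
        rw [hr, mul_pow, (hr'.pow (e i)).mul_right_dvd]
      have hg0 : E ((g ^ e i) (w i)) = 0 := by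
        rw [hwpow, show AdjoinRoot.root (p i ^ e i) ^ e i = 0 by
          rw [← AdjoinRoot.mk_X, ← map_pow, AdjoinRoot.mk_eq_zero]; exact hdvd, Pi.single_zero]
      have hpinj : ∀ m : ℕ, Function.Injective ⇑(g ^ m) := by
        intro m
        induction m with
        | zero => intro a b h; simpa using h
        | succ m ih =>
          intro a b h
          rw [pow_succ', Module.End.mul_apply, Module.End.mul_apply] at h
          exact ih (hg h)
      have := E.map_eq_zero_iff.1 hg0
      exact hwne (hpinj _ (by rw [this, map_zero]))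
    have hrest : f.coeff 0 • w i + f.leadingCoeff • (g ^ d i) (w i) ∈
        Submodule.span F ((fun m => (g ^ m) (w i)) '' Set.Ico 1 (d i)) := by
      rw [Finset.sum_range_succ, Finset.range_eq_Ico, Finset.sum_eq_sum_Ico_succ_bot hi, pow_zero,
        Module.End.one_apply, leadingCoeff, hfd] at *
      have hm : ∑ m ∈ Finset.Ico (0 + 1) (d i), f.coeff m • (g ^ m) (w i) ∈
          Submodule.span F ((fun m => (g ^ m) (w i)) '' Set.Ico 1 (d i)) := by
        refine Submodule.sum_mem _ fun m hm => Submodule.smul_mem _ _ (Submodule.subset_span ⟨m, ?_, rfl⟩)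
        rw [Finset.mem_Ico] at hm
        exact ⟨by omega, hm.2⟩
      have h' : f.coeff 0 • w i + f.coeff (d i) • (g ^ d i) (w i) =
          -∑ m ∈ Finset.Ico (0 + 1) (d i), f.coeff m • (g ^ m) (w i) := by
        rw [eq_neg_iff_add_eq_zero, ← hsum]; abel
      rw [h']
      exact Submodule.neg_mem _ hm
    refine ⟨⟨d i, w i, -(f.coeff 0 / f.leadingCoeff), hi,
      neg_ne_zero.2 (div_ne_zero hf0 hlc), ?_⟩, rfl, rfl⟩
    have := Submodule.smul_mem _ f.leadingCoeff⁻¹ hrest
    rw [smul_add, smul_smul, smul_smul, inv_mul_cancel₀ hlc, one_smul] at this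
    rw [neg_smul, sub_neg_eq_add, add_comm, div_eq_inv_mul]
    exact this
  choose B hBd hBw using hblock
  obtain ⟨L, hL⟩ : ∃ L : List (Block g), L =
      ((Finset.univ : Finset ι).toList.filterMap fun i => if h : 0 < d i then some (B i h) else none) :=
    ⟨_, rfl⟩
  have hdim : dimL L = ∑ i, d i := by
    rw [← Finset.sum_map_toList, hL, dimL, List.map_filterMap]
    generalize (Finset.univ : Finset ι).toList = l
    induction l with
    | nil => rfl
    | cons a l ih =>
      by_cases h : 0 < d a
      · rw [List.filterMap_cons, dif_pos h, Option.map_some, List.sum_cons, List.map_cons, List.sum_cons,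
          ih, hBd]
      · rw [List.filterMap_cons, dif_neg h, Option.map_none, List.map_cons, List.sum_cons, ih]
        omega
  refine ⟨L, ?_, ?_⟩
  · rw [hdim, E.finrank_eq]
    haveI : ∀ i, FiniteDimensional F (AdjoinRoot (p i ^ e i)) := fun i =>
      (AdjoinRoot.powerBasis (hne i)).finite
    rw [Module.finrank_pi_fintype]
    refine Finset.sum_congr rfl fun i _ => ?_
    rw [(AdjoinRoot.powerBasis (hne i)).finrank, AdjoinRoot.powerBasis_dim, hd]
  · rw [eq_top_iff]
    intro v _
    have hv : v = ∑ i, E.symm (Pi.single i (E v i)) := by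
      rw [← map_sum, Finset.univ_sum_single, E.symm_apply_apply]
    rw [hv]
    refine Submodule.sum_mem _ fun i _ => ?_
    obtain ⟨pb, hpb⟩ : ∃ pb, pb = AdjoinRoot.powerBasis (hne i) := ⟨_, rfl⟩
    have hdimi : pb.dim = d i := by rw [hpb, AdjoinRoot.powerBasis_dim, hd]
    rw [← pb.basis.sum_repr (E v i)]
    rcases Nat.eq_zero_or_pos (d i) with h0 | h0
    · haveI : IsEmpty (Fin pb.dim) := by rw [hdimi, h0]; infer_instance
      rw [Finset.univ_eq_empty, Finset.sum_empty, Pi.single_zero, map_zero]
      exact Submodule.zero_mem _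
    have hmem : B i h0 ∈ L := by
      rw [hL, List.mem_filterMap]
      exact ⟨i, by simp, dif_pos h0⟩
    refine le_spanL hmem ?_
    have hsingle : Pi.single i (∑ j, pb.basis.repr (E v i) j • pb.basis j) =
        ∑ j, pb.basis.repr (E v i) j • E ((g ^ (j : ℕ)) (w i)) := by
      funext m
      rw [Finset.sum_apply]
      by_cases hm : m = i
      · subst hm
        rw [Pi.single_eq_same]
        refine Finset.sum_congr rfl fun j _ => ?_
        have hgen : pb.gen = AdjoinRoot.root (p m ^ e m) := by rw [hpb, AdjoinRoot.powerBasis_gen]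
        rw [Pi.smul_apply, hwpow, Pi.single_eq_same, PowerBasis.basis_eq_pow, hgen]
      · rw [Pi.single_eq_of_ne hm]
        exact (Finset.sum_eq_zero fun j _ => by
          rw [Pi.smul_apply, hwpow, Pi.single_eq_of_ne hm, smul_zero]).symm
    rw [hsingle, map_sum]
    refine Submodule.sum_mem _ fun j _ => ?_
    rw [map_smul, E.symm_apply_apply]
    refine Submodule.smul_mem _ _ (Submodule.subset_span ⟨(j : ℕ), ?_, by rw [hBw]⟩)
    show (j : ℕ) < (B i h0).d
    rw [hBd, ← hdimi]
    exact j.2

end Cfsg.Agent.SLComm23
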