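import Cfsg.Agent.Lib.SLComm23.Cyclic

/-!
From a combinatorial "good" arrangement of a basis to a commutator decomposition.
-/

set_option autoImplicit false

namespace Cfsg.Agent.SLComm23

open Polynomial

variable {F V : Type*} [Field F] [AddCommGroup V] [Module F V]

/-- A good arrangement of `n` vectors for `g`: along the list `x` the map `g` sends `x (pre j)` to
a multiple of `x j` modulo earlier vectors, and the successor structure `j ↦ pre (j+1)` splits
into the open chain `t` and at most one closed chain `u`. -/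
structure Good (g : V →ₗ[F] V) where
  n : ℕ
  x : ℕ → V
  pre : ℕ → ℕ
  l : ℕ
  t : ℕ → ℕ
  k : ℕ
  u : ℕ → ℕ
  hl : 0 < l
  hn : l + k + 1 = n
  cover : ∀ j, 1 ≤ j → j < n → (∃ i, i < l ∧ t i = j) ∨ (∃ i, i < k ∧ u i = j)
  tlast : t (l - 1) = n - 1
  pre_one : pre 1 = 0
  lead : ∀ j, 1 ≤ j → j < n → pre j < n ∧
    ∃ c : F, c ≠ 0 ∧ g (x (pre j)) - c • x j ∈ Submodule.span F (x '' Set.Iio j)
  tstep : ∀ i, i + 1 < l → t i + 1 < n ∧ pre (t i + 1) = t (i + 1)
  ustep : ∀ i, i + 1 < k → u i + 1 < n ∧ pre (u i + 1) = u (i + 1)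
  uend : 0 < k → u (k - 1) + 1 < n ∧ pre (u (k - 1) + 1) = u 0
  utail : ∀ i, 1 ≤ i → i < k → g (x (u i)) ∈ Submodule.span F (x '' Set.Iic (u (k - 1)))

/-- A polynomial annihilates the first vector of its companion chain. -/
theorem aeval_chain {T : V →ₗ[F] V} {l : ℕ} (hl : 0 < l) (e : ℕ → V) (h : F[X]) (hm : h.Monic)
    (hd : h.natDegree = l) (hs : ∀ i, i + 1 < l → T (e i) = e (i + 1))
    (he : T (e (l - 1)) = -∑ j ∈ Finset.range l, h.coeff j • e j) :
    (∀ i, i < l → (T ^ i) (e 0) = e i) ∧ aeval T h (e 0) = 0 := by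
  have h1 : ∀ i, i < l → (T ^ i) (e 0) = e i := by
    intro i hi
    induction i with
    | zero => simp
    | succ i ih => rw [pow_succ', Module.End.mul_apply, ih (by omega), hs i hi]
  refine ⟨h1, ?_⟩
  rw [aeval_eq_sum_range, LinearMap.sum_apply, hd, Finset.sum_range_succ, LinearMap.smul_apply,
    show h.coeff l = 1 by rw [← hd]; exact hm.coeff_natDegree, one_smul,
    show (T ^ l) (e 0) = T ((T ^ (l - 1)) (e 0)) by
      rw [← Module.End.mul_apply, ← pow_succ', Nat.sub_add_cancel hl],
    h1 _ (by omega), he, ← sub_eq_add_neg, sub_eq_zero]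
  exact Finset.sum_congr rfl fun j hj => by rw [LinearMap.smul_apply, h1 j (Finset.mem_range.1 hj)]

theorem mem_of_coprime {T : V →ₗ[F] V} {S : Submodule F V} (hS : ∀ x ∈ S, T x ∈ S) {p q : F[X]}
    (h : IsCoprime p q) {a b : V} (ha : aeval T p a = 0) (hb : aeval T q b = 0) (hab : a + b ∈ S) :
    a ∈ S ∧ b ∈ S := by
  obtain ⟨A, B, hAB⟩ := h
  have h2 : aeval T (B * q) (a + b) = a := by
    rw [map_add, show aeval T (B * q) b = 0 by rw [map_mul, Module.End.mul_apply, hb, map_zero],
      add_zero, show B * q = 1 - A * p by rw [← hAB]; ring, map_sub, LinearMap.sub_apply, map_one,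
      map_mul, Module.End.mul_apply, ha, map_zero, sub_zero, Module.End.one_apply]
  have ha' : a ∈ S := h2 ▸ aeval_apply_mem hS hab _
  exact ⟨ha', by simpa using S.sub_mem hab ha'⟩

theorem coprime_X_sub_C {h : F[X]} {α : F} (hα : h.eval α ≠ 0) : IsCoprime (X - C α) h :=
  (irreducible_X_sub_C α).coprime_iff_not_dvd.2 fun hd => hα (dvd_iff_isRoot.1 hd)

/-- The polynomial data needed by a good arrangement. -/
structure PolyData (F : Type*) [Field F] (l k : ℕ) where
  α : F
  ht : F[X]
  hu : F[X]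
  tmonic : ht.Monic
  tdeg : ht.natDegree = l
  umonic : hu.Monic
  udeg : hu.natDegree = k
  teval : ht.eval α ≠ 0
  ueval : hu.eval α ≠ 0
  cop : IsCoprime ht hu
  sign : -α * ht.coeff 0 * hu.coeff 0 = (-1) ^ (l + k + 1)

theorem PolyData.zero_nz {l k : ℕ} (D : PolyData F l k) :
    D.α ≠ 0 ∧ D.ht.coeff 0 ≠ 0 ∧ D.hu.coeff 0 ≠ 0 := by
  refine ⟨fun h => ?_, fun h => ?_, fun h => ?_⟩ <;>
  · have h1 := D.sign
    rw [h] at h1
    simp only [neg_zero, zero_mul, mul_zero] at h1
    exact pow_ne_zero _ (neg_ne_zero.2 one_ne_zero) h1.symm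

/-- A good arrangement of a basis gives a commutator decomposition. -/
theorem Good.isComm [FiniteDimensional F V] {g : V →ₗ[F] V} (d : Good g) (hg : LinearMap.det g = 1)
    (hdim : Module.finrank F V = d.n) (htop : Submodule.span F (d.x '' Set.Iio d.n) = ⊤)
    (D : PolyData F d.l d.k) : IsComm g := by
  classical
  obtain ⟨idx, hidx⟩ : ∃ idx : Option (Fin d.l ⊕ Fin d.k) → ℕ,
      idx none = 0 ∧ (∀ i, idx (some (Sum.inl i)) = d.t i) ∧ ∀ i, idx (some (Sum.inr i)) = d.u i :=
    ⟨fun o => o.elim 0 (Sum.elim (fun i => d.t i) fun i => d.u i), rfl, fun _ => rfl, fun _ => rfl⟩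
  obtain ⟨hi0, hit, hiu⟩ := hidx
  have hspan : ⊤ ≤ Submodule.span F (Set.range fun o => d.x (idx o)) := by
    rw [← htop]
    refine Submodule.span_le.2 ?_
    rintro _ ⟨j, hj, rfl⟩
    refine Submodule.subset_span ?_
    rcases Nat.eq_zero_or_pos j with rfl | hj0
    · exact ⟨none, by simp [hi0]⟩
    · rcases d.cover j hj0 hj with ⟨i, hi, hi'⟩ | ⟨i, hi, hi'⟩
      · exact ⟨some (Sum.inl ⟨i, hi⟩), by simp [hit, hi']⟩
      · exact ⟨some (Sum.inr ⟨i, hi⟩), by simp [hiu, hi']⟩
  have hcard : Fintype.card (Option (Fin d.l ⊕ Fin d.k)) = Module.finrank F V := by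
    rw [Fintype.card_option, Fintype.card_sum, Fintype.card_fin, Fintype.card_fin, hdim]
    exact d.hn
  obtain ⟨B, hB⟩ : ∃ B : Module.Basis (Option (Fin d.l ⊕ Fin d.k)) F V, ∀ o, B o = d.x (idx o) :=
    ⟨Module.Basis.mk (linearIndependent_of_top_le_span_of_card_eq_finrank hspan hcard) hspan,
      fun o => by rw [Module.Basis.mk_apply]⟩
  obtain ⟨b0, hb0⟩ : ∃ b0, b0 = B.constr F (fun o => match o with
      | none => D.α • d.x 0
      | some (Sum.inl i) => if (i : ℕ) + 1 < d.l then d.x (d.t (i + 1))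
          else -∑ j ∈ Finset.range d.l, D.ht.coeff j • d.x (d.t j)
      | some (Sum.inr i) => if (i : ℕ) + 1 < d.k then d.x (d.u (i + 1))
          else -∑ j ∈ Finset.range d.k, D.hu.coeff j • d.x (d.u j)) := ⟨_, rfl⟩
  have hbv : b0 (d.x 0) = D.α • d.x 0 := by
    conv_lhs => rw [← hi0, ← hB, hb0, Module.Basis.constr_basis]
  have hbt : ∀ i (hi : i < d.l), b0 (d.x (d.t i)) = if i + 1 < d.l then d.x (d.t (i + 1))
      else -∑ j ∈ Finset.range d.l, D.ht.coeff j • d.x (d.t j) := fun i hi => by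
    conv_lhs => rw [← hit ⟨i, hi⟩, ← hB, hb0, Module.Basis.constr_basis]
  have hbu : ∀ i (hi : i < d.k), b0 (d.x (d.u i)) = if i + 1 < d.k then d.x (d.u (i + 1))
      else -∑ j ∈ Finset.range d.k, D.hu.coeff j • d.x (d.u j) := fun i hi => by
    conv_lhs => rw [← hiu ⟨i, hi⟩, ← hB, hb0, Module.Basis.constr_basis]
  have htt : (∀ i, i < d.l → (b0 ^ i) (d.x (d.t 0)) = d.x (d.t i)) ∧
      aeval b0 D.ht (d.x (d.t 0)) = 0 :=
    aeval_chain d.hl (fun i => d.x (d.t i)) D.ht D.tmonic D.tdeg
      (fun i hi => by rw [hbt i (by omega), if_pos hi])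
      (by
        have hl := d.hl
        rw [hbt _ (by omega), if_neg (by omega)])
  obtain ⟨wu, hwu⟩ : ∃ wu, wu = if 0 < d.k then d.x (d.u 0) else (0 : V) := ⟨_, rfl⟩
  have huu : (∀ i, i < d.k → (b0 ^ i) wu = d.x (d.u i)) ∧ aeval b0 D.hu wu = 0 := by
    rcases Nat.eq_zero_or_pos d.k with hk | hk
    · rw [hwu, if_neg (by omega), map_zero]
      exact ⟨fun i hi => absurd hi (by omega), rfl⟩
    · rw [hwu, if_pos hk]
      exact aeval_chain hk (fun i => d.x (d.u i)) D.hu D.umonic D.udeg
        (fun i hi => by rw [hbu i (by omega), if_pos hi])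
        (by rw [hbu _ (by omega), if_neg (by omega)])
  obtain ⟨H, hH⟩ : ∃ H, H = D.ht * D.hu := ⟨_, rfl⟩
  obtain ⟨u, hu⟩ : ∃ u, u = d.x 0 + (d.x (d.t 0) + wu) := ⟨_, rfl⟩
  have hHw : aeval b0 H (d.x (d.t 0) + wu) = 0 := by
    rw [map_add, hH, map_mul, Module.End.mul_apply, Module.End.mul_apply, huu.2, map_zero, add_zero,
      ← Module.End.mul_apply, ← map_mul, mul_comm, map_mul, Module.End.mul_apply, htt.2, map_zero]
  have hvspan : ∀ w ∈ Submodule.span F ({d.x 0} : Set V), b0 w ∈ Submodule.span F ({d.x 0} : Set V) := by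
    intro w hw
    obtain ⟨c, rfl⟩ := Submodule.mem_span_singleton.1 hw
    rw [map_smul, hbv, smul_smul]
    exact Submodule.smul_mem _ _ (Submodule.mem_span_singleton_self _)
  have hv0 : aeval b0 (X - C D.α) (d.x 0) = 0 := by
    simp [hbv, Module.algebraMap_end_apply]
  have hcopα : IsCoprime (X - C D.α) H :=
    coprime_X_sub_C (by rw [hH, eval_mul]; exact mul_ne_zero D.teval D.ueval)
  have hKtop : Cyc b0 u = ⊤ := by
    have hinv : ∀ y ∈ Cyc b0 u, b0 y ∈ Cyc b0 u := fun y hy => cyc_apply_mem hy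
    obtain ⟨h0, hw⟩ := mem_of_coprime hinv hcopα hv0 hHw (hu ▸ self_mem_cyc b0 u)
    obtain ⟨hwt, hwu'⟩ := mem_of_coprime hinv D.cop htt.2 huu.2 hw
    rw [eq_top_iff, ← B.span_eq]
    refine Submodule.span_le.2 ?_
    rintro _ ⟨o, rfl⟩
    rw [SetLike.mem_coe, hB]
    rcases o with _ | ⟨i⟩ | ⟨i⟩
    · rw [hi0]; exact h0
    · rw [hit, ← htt.1 i i.2]; exact pow_apply_mem hinv hwt i
    · rw [hiu, ← huu.1 i i.2]; exact pow_apply_mem hinv hwu' i
  have hfm : ((X - C D.α) * H).Monic := (monic_X_sub_C _).mul (hH ▸ D.tmonic.mul D.umonic)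
  have hcyc : IsCyc d.n b0 u ((X - C D.α) * H) := by
    refine ⟨by have := d.hn; omega, hdim, hfm, ?_, ?_, hKtop⟩
    · rw [(monic_X_sub_C _).natDegree_mul (hH ▸ D.tmonic.mul D.umonic), natDegree_X_sub_C, hH,
        D.tmonic.natDegree_mul D.umonic, D.tdeg, D.udeg, ← d.hn]
      omega
    · rw [hu, map_add, map_mul, Module.End.mul_apply, Module.End.mul_apply, hHw, map_zero, add_zero,
        ← Module.End.mul_apply, ← map_mul, mul_comm, map_mul, Module.End.mul_apply, hv0, map_zero]
  have hHu : aeval b0 H u ∈ Submodule.span F ({d.x 0} : Set V) := by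
    rw [hu, map_add, hHw, add_zero]
    exact aeval_apply_mem hvspan (Submodule.mem_span_singleton_self _) H
  have hφb : ∀ y, B.coord none (b0 y) = D.α * B.coord none y := by
    suffices h : (B.coord none).comp b0 = D.α • B.coord none from fun y => LinearMap.congr_fun h y
    refine B.ext fun o => ?_
    have hne : ∀ j : Fin d.l ⊕ Fin d.k, B.coord none (d.x (idx (some j))) = 0 := fun j => by
      rw [← hB, Module.Basis.coord_apply, Module.Basis.repr_self, Finsupp.single_eq_of_ne (by simp)]
    have hne_t : ∀ j, j < d.l → B.coord none (d.x (d.t j)) = 0 := fun j hj => hit ⟨j, hj⟩ ▸ hne _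
    have hne_u : ∀ j, j < d.k → B.coord none (d.x (d.u j)) = 0 := fun j hj => hiu ⟨j, hj⟩ ▸ hne _
    rw [LinearMap.comp_apply, LinearMap.smul_apply, hB]
    rcases o with _ | ⟨i⟩ | ⟨i⟩
    · rw [hi0, hbv, map_smul]
    · rw [hit, hbt i i.2, hne_t i i.2, smul_zero]
      split_ifs with h
      · exact hne_t _ h
      · rw [map_neg, map_sum, Finset.sum_eq_zero, neg_zero]
        exact fun j hj => by rw [map_smul, hne_t j (Finset.mem_range.1 hj), smul_zero]
    · rw [hiu, hbu i i.2, hne_u i i.2, smul_zero]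
      split_ifs with h
      · exact hne_u _ h
      · rw [map_neg, map_sum, Finset.sum_eq_zero, neg_zero]
        exact fun j hj => by rw [map_smul, hne_u j (Finset.mem_range.1 hj), smul_zero]
  have hM0 : Cyc (g * b0) (d.x 0) = ⊤ := by
    obtain ⟨hα, -, hu00⟩ := D.zero_nz
    obtain ⟨K, hK⟩ : ∃ K, K = Cyc (g * b0) (d.x 0) := ⟨_, rfl⟩
    rw [← hK]
    have hstep : ∀ y ∈ K, g (b0 y) ∈ K := fun y hy => by
      rw [hK] at hy ⊢; exact cyc_apply_mem hy
    rw [eq_top_iff, ← htop, Submodule.span_le]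
    rintro _ ⟨j, hj, rfl⟩
    change j < d.n at hj
    induction j using Nat.strong_induction_on with
    | _ j ih =>
      rcases Nat.eq_zero_or_pos j with rfl | hj0
      · rw [hK]; exact self_mem_cyc _ _
      obtain ⟨-, c, hc, hcj⟩ := d.lead j hj0 hj
      have hlow : Submodule.span F (d.x '' Set.Iio j) ≤ K := by
        refine Submodule.span_le.2 ?_
        rintro _ ⟨i, hi, rfl⟩
        change i < j at hi
        exact ih i hi (show i < d.n by omega)
      have hprev : g (b0 (d.x (j - 1))) ∈ K := hstep _ (ih (j - 1) (by omega) (show j - 1 < d.n by omega))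
      suffices hg' : g (d.x (d.pre j)) ∈ K by
        have := K.sub_mem hg' (hlow hcj)
        rw [sub_sub_cancel] at this
        exact (Submodule.smul_mem_iff K hc).1 this
      rcases Nat.eq_or_lt_of_le hj0 with h1 | h1
      · have h1' : j = 1 := by omega
        subst h1'
        rw [d.pre_one]
        rw [hbv, map_smul] at hprev
        exact (Submodule.smul_mem_iff K hα).1 hprev
      · rcases d.cover (j - 1) (by omega) (by omega) with ⟨i, hi, hij⟩ | ⟨i, hi, hij⟩
        · by_cases hil : i + 1 < d.l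
          · obtain ⟨-, hp⟩ := d.tstep i hil
            rw [hij, Nat.sub_add_cancel hj0] at hp
            rw [← hij, hbt i hi, if_pos hil, ← hp] at hprev
            exact hprev
          · exfalso
            have := d.tlast
            rw [show d.l - 1 = i by omega, hij] at this
            omega
        · by_cases hik : i + 1 < d.k
          · obtain ⟨-, hp⟩ := d.ustep i hik
            rw [hij, Nat.sub_add_cancel hj0] at hp
            rw [← hij, hbu i hi, if_pos hik, ← hp] at hprev
            exact hprev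
          · have hend : i = d.k - 1 := by omega
            obtain ⟨-, hp⟩ := d.uend (by omega)
            rw [← hend, hij, Nat.sub_add_cancel hj0] at hp
            rw [hp]
            rw [← hij, hbu i hi, if_neg hik, map_neg, map_sum, Submodule.neg_mem_iff,
              Finset.range_eq_Ico, Finset.sum_eq_sum_Ico_succ_bot (by omega), map_smul] at hprev
            have hrest : ∑ x ∈ Finset.Ico (0 + 1) d.k, g (D.hu.coeff x • d.x (d.u x)) ∈ K := by
              refine K.sum_mem fun x hx => ?_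
              rw [Finset.mem_Ico] at hx
              rw [map_smul]
              refine K.smul_mem _ ?_
              have hle : Submodule.span F (d.x '' Set.Iic (d.u (d.k - 1))) ≤ K := by
                rw [← hend, hij]
                refine Submodule.span_le.2 ?_
                rintro _ ⟨m, hm, rfl⟩
                change m ≤ j - 1 at hm
                exact ih m (by omega) (show m < d.n by omega)
              exact hle (d.utail x (by omega) hx.2)
            have := K.sub_mem hprev hrest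
            rw [add_sub_cancel_right] at this
            exact (Submodule.smul_mem_iff K hu00).1 this
  refine isComm_of_shear g b0 (d.x 0) u (B.coord none) D.α H hg ?_ hφb hbv hcyc ?_ hHu ?_ hM0
  · rw [← hi0, ← hB, Module.Basis.coord_apply, Module.Basis.repr_self, Finsupp.single_eq_same]
  · rw [hH, eval_mul]; exact mul_ne_zero D.teval D.ueval
  · rw [mul_coeff_zero, hH, mul_coeff_zero, coeff_sub, coeff_X_zero, coeff_C_zero, zero_sub, ← mul_assoc,
      D.sign, d.hn]

end Cfsg.Agent.SLComm23
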