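import Mathlib

/-!
Cyclic endomorphisms of finite-dimensional spaces, and the shear trick used to write elements of
`SL(V)` as commutators.
-/

set_option autoImplicit false

namespace Cfsg.Agent.SLComm23

open Polynomial

variable {F V : Type*} [Field F] [AddCommGroup V] [Module F V]

/-- The cyclic subspace generated by `u`. -/
def Cyc (T : V →ₗ[F] V) (u : V) : Submodule F V :=
  Submodule.span F (Set.range fun i : ℕ => (T ^ i) u)

theorem self_mem_cyc (T : V →ₗ[F] V) (u : V) : u ∈ Cyc T u :=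
  Submodule.subset_span ⟨0, by simp⟩

theorem cyc_apply_mem {T : V →ₗ[F] V} {u x : V} (hx : x ∈ Cyc T u) : T x ∈ Cyc T u := by
  have h : (Cyc T u).map T ≤ Cyc T u := by
    rw [Cyc, Submodule.map_span]
    refine Submodule.span_le.2 ?_
    rintro _ ⟨_, ⟨i, rfl⟩, rfl⟩
    exact Submodule.subset_span ⟨i + 1, by simp [pow_succ']⟩
  exact h ⟨x, hx, rfl⟩

theorem cyc_le {T : V →ₗ[F] V} {u : V} {S : Submodule F V} (hu : u ∈ S)
    (hS : ∀ x ∈ S, T x ∈ S) : Cyc T u ≤ S := by
  refine Submodule.span_le.2 ?_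
  rintro _ ⟨i, rfl⟩
  induction i with
  | zero => simpa using hu
  | succ i ih => simpa [pow_succ'] using hS _ ih

theorem pow_apply_mem {T : V →ₗ[F] V} {S : Submodule F V} (hS : ∀ x ∈ S, T x ∈ S) {x : V}
    (hx : x ∈ S) : ∀ i : ℕ, (T ^ i) x ∈ S
  | 0 => by simpa using hx
  | i + 1 => by simpa [pow_succ'] using hS _ (pow_apply_mem hS hx i)

theorem aeval_apply_mem {T : V →ₗ[F] V} {S : Submodule F V} (hS : ∀ x ∈ S, T x ∈ S) {x : V}
    (hx : x ∈ S) (p : F[X]) : aeval T p x ∈ S := by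
  rw [aeval_eq_sum_range, LinearMap.sum_apply]
  exact S.sum_mem fun i _ => by
    rw [LinearMap.smul_apply]; exact S.smul_mem _ (pow_apply_mem hS hx i)

theorem exists_aeval {T : V →ₗ[F] V} {u x : V} (hx : x ∈ Cyc T u) :
    ∃ p : F[X], x = aeval T p u := by
  refine Submodule.span_induction ?_ ?_ ?_ ?_ hx
  · rintro _ ⟨i, rfl⟩
    exact ⟨X ^ i, by simp⟩
  · exact ⟨0, by simp⟩
  · rintro a b _ _ ⟨p, rfl⟩ ⟨q, rfl⟩
    exact ⟨p + q, by simp⟩
  · rintro c a _ ⟨p, rfl⟩
    exact ⟨c • p, by simp⟩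

theorem aeval_mod {T : V →ₗ[F] V} {u : V} {f : F[X]} (hfu : aeval T f u = 0)
    (p : F[X]) : aeval T p u = aeval T (p %ₘ f) u := by
  conv_lhs => rw [← modByMonic_add_div p f]
  rw [map_add, LinearMap.add_apply, mul_comm, map_mul, Module.End.mul_apply, hfu, map_zero, add_zero]

theorem aeval_small {T : V →ₗ[F] V} (u : V) {n : ℕ} {p : F[X]} (hp : p.natDegree < n) :
    aeval T p u = ∑ i : Fin n, p.coeff i • (T ^ (i : ℕ)) u := by
  rw [aeval_eq_sum_range' hp, LinearMap.sum_apply, Finset.sum_range]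
  exact Finset.sum_congr rfl fun i _ => rfl

theorem natDegree_mod_lt {f : F[X]} {n : ℕ} (hf : f.Monic) (hn : f.natDegree = n) (h0 : 0 < n)
    (p : F[X]) : (p %ₘ f).natDegree < n := by
  rw [← hn]
  exact natDegree_modByMonic_lt p hf (fun h => by rw [h, natDegree_one] at hn; omega)

section Basis

variable [FiniteDimensional F V] {n : ℕ} {T : V →ₗ[F] V} {u : V} {f : F[X]}

/-- `u` is a cyclic vector of `T`, whose minimal polynomial is `f`. -/
structure IsCyc (n : ℕ) (T : V →ₗ[F] V) (u : V) (f : F[X]) : Prop where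
  pos : 0 < n
  dim : Module.finrank F V = n
  monic : f.Monic
  deg : f.natDegree = n
  ann : aeval T f u = 0
  top : Cyc T u = ⊤

theorem IsCyc.linearIndependent (h : IsCyc n T u f) :
    LinearIndependent F (fun i : Fin n => (T ^ (i : ℕ)) u) := by
  refine linearIndependent_of_top_le_span_of_card_eq_finrank (fun x _ => ?_) ?_
  · obtain ⟨p, rfl⟩ := exists_aeval (show x ∈ Cyc T u by rw [h.top]; trivial)
    rw [aeval_mod h.ann, aeval_small u (natDegree_mod_lt h.monic h.deg h.pos p)]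
    exact Submodule.sum_mem _ fun i _ => Submodule.smul_mem _ _ (Submodule.subset_span ⟨i, rfl⟩)
  · rw [Fintype.card_fin, h.dim]

/-- The basis of iterates. -/
noncomputable def IsCyc.basis (h : IsCyc n T u f) : Module.Basis (Fin n) F V :=
  haveI : Nonempty (Fin n) := ⟨⟨0, h.pos⟩⟩
  basisOfLinearIndependentOfCardEqFinrank h.linearIndependent (by rw [Fintype.card_fin, h.dim])

theorem IsCyc.basis_apply (h : IsCyc n T u f) (i : Fin n) : h.basis i = (T ^ (i : ℕ)) u := by
  simp [IsCyc.basis]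

theorem IsCyc.eq_zero_of_deg_lt (h : IsCyc n T u f) {p : F[X]} (hp : p.natDegree < n)
    (h0 : aeval T p u = 0) : p = 0 := by
  rw [aeval_small u hp] at h0
  have h1 := Fintype.linearIndependent_iff.1 h.linearIndependent (fun i => p.coeff i) h0
  ext i
  rw [coeff_zero]
  by_cases hi : i < n
  · exact h1 ⟨i, hi⟩
  · exact coeff_eq_zero_of_natDegree_lt (by omega)

theorem IsCyc.charpoly (h : IsCyc n T u f) : T.charpoly = f := by
  have hd : T.charpoly.natDegree = n := by rw [LinearMap.charpoly_natDegree, h.dim]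
  refine sub_eq_zero.1 (h.eq_zero_of_deg_lt ?_ ?_)
  · rcases eq_or_ne (T.charpoly - f) 0 with hz | hz
    · rw [hz, natDegree_zero]; exact h.pos
    · have hlt : (T.charpoly - f).degree < T.charpoly.degree := degree_sub_lt
        (by rw [degree_eq_natDegree T.charpoly_monic.ne_zero, degree_eq_natDegree h.monic.ne_zero,
          hd, h.deg]) T.charpoly_monic.ne_zero
        (by rw [T.charpoly_monic.leadingCoeff, h.monic.leadingCoeff])
      rw [degree_eq_natDegree hz, degree_eq_natDegree T.charpoly_monic.ne_zero, hd] at hlt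
      exact_mod_cast hlt
  · rw [map_sub, LinearMap.sub_apply, h.ann, T.aeval_self_charpoly, LinearMap.zero_apply, sub_zero]

theorem IsCyc.exists_conj {S : V →ₗ[F] V} {w : V} (h : IsCyc n T u f) (h' : IsCyc n S w f) :
    ∃ P : V ≃ₗ[F] V, ∀ x, P (T x) = S (P x) := by
  let P := h.basis.equiv h'.basis (Equiv.refl _)
  have hb : ∀ i : Fin n, P ((T ^ (i : ℕ)) u) = (S ^ (i : ℕ)) w := fun i => by
    rw [← h.basis_apply, ← h'.basis_apply]; simp [P]
  have hp : ∀ p : F[X], P (aeval T p u) = aeval S p w := fun p => by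
    have hd := natDegree_mod_lt h.monic h.deg h.pos p
    rw [aeval_mod h.ann p, aeval_mod h'.ann p, aeval_small u hd, aeval_small w hd, map_sum]
    exact Finset.sum_congr rfl fun i _ => by rw [map_smul, hb]
  refine ⟨P, fun x => ?_⟩
  obtain ⟨p, rfl⟩ := exists_aeval (show x ∈ Cyc T u by rw [h.top]; trivial)
  have h1 : T (aeval T p u) = aeval T (X * p) u := by
    rw [map_mul, aeval_X, Module.End.mul_apply]
  rw [h1, hp, hp, map_mul, aeval_X, Module.End.mul_apply]

end Basis

/-- `g` is a commutator of `SL(V)`. -/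
def IsComm (g : V →ₗ[F] V) : Prop :=
  ∃ a b : V →ₗ[F] V, LinearMap.det a = 1 ∧ LinearMap.det b = 1 ∧ g * (b * a) = a * b

/-- The coefficients used to correct the characteristic polynomial. -/
def shearS (c fc : ℕ → F) (n : ℕ) : ℕ → F
  | 0 => 1
  | r + 1 => c (n - (r + 1)) - ∑ i : Fin (r + 1), fc (n - (r + 1) + i.1) * shearS c fc n i.1

/-- The values of the correcting functional on the iterates. -/
def shearZ (s : ℕ → F) : ℕ → F
  | 0 => 0
  | j + 1 => s (j + 1) - ∑ i : Fin j, s (i.1 + 1) * shearZ s (j - i.1)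

theorem shearS_spec (c fc : ℕ → F) (n : ℕ) (hc : c n = 1) (hfc : fc n = 1) (r : ℕ) (hr : r ≤ n) :
    ∑ i ∈ Finset.range (r + 1), fc (n - r + i) * shearS c fc n i = c (n - r) := by
  cases r with
  | zero => simp [shearS, hc, hfc]
  | succ r =>
    rw [Finset.sum_range_succ, show n - (r + 1) + (r + 1) = n by omega, hfc, one_mul]
    conv_lhs => arg 2; rw [shearS]
    rw [Finset.sum_range]
    ring

theorem det_of_cyc [FiniteDimensional F V] {n : ℕ} {T : V →ₗ[F] V} {u : V} {f : F[X]}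
    (h : IsCyc n T u f) : LinearMap.det T = (-1) ^ n * f.coeff 0 := by
  classical
  have := Matrix.det_eq_sign_charpoly_coeff (LinearMap.toMatrix h.basis h.basis T)
  rw [LinearMap.det_toMatrix, LinearMap.charpoly_toMatrix, Fintype.card_fin, h.charpoly] at this
  exact this

/-- The shear trick. -/
theorem isComm_of_shear [FiniteDimensional F V] {n : ℕ} (g b0 : V →ₗ[F] V) (v u : V) (φ : V →ₗ[F] F)
    (α : F) (H : F[X]) (hg : LinearMap.det g = 1) (hφ : φ v = 1) (hφb : ∀ x, φ (b0 x) = α * φ x)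
    (hv : b0 v = α • v) (hcyc : IsCyc n b0 u ((X - C α) * H)) (hHα : H.eval α ≠ 0)
    (hHu : aeval b0 H u ∈ Submodule.span F {v}) (hf0 : ((X - C α) * H).coeff 0 = (-1) ^ n)
    (hM0 : Cyc (g * b0) v = ⊤) : IsComm g := by
  classical
  obtain ⟨f, hf⟩ : ∃ f, f = (X - C α) * H := ⟨_, rfl⟩
  rw [← hf] at hcyc hf0
  have hdb0 : LinearMap.det b0 = 1 := by
    rw [det_of_cyc hcyc, hf0, ← mul_pow, neg_one_mul, neg_neg, one_pow]
  obtain ⟨M0, hM0def⟩ : ∃ M0, M0 = g * b0 := ⟨_, rfl⟩
  rw [← hM0def] at hM0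
  obtain ⟨χ, hχdef⟩ : ∃ χ, χ = M0.charpoly := ⟨_, rfl⟩
  have hM : IsCyc n M0 v χ := ⟨hcyc.pos, hcyc.dim, hχdef ▸ M0.charpoly_monic,
    by rw [hχdef, LinearMap.charpoly_natDegree, hcyc.dim], by
      rw [hχdef, M0.aeval_self_charpoly]; rfl, hM0⟩
  have hχ0 : χ.coeff 0 = f.coeff 0 := by
    have h1 := det_of_cyc hM
    rw [hM0def, map_mul, hg, hdb0, one_mul] at h1
    rw [hf0]
    calc χ.coeff 0 = ((-1) ^ n * (-1) ^ n) * χ.coeff 0 := by
          rw [← mul_pow, neg_one_mul, neg_neg, one_pow, one_mul]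
      _ = (-1) ^ n := by rw [mul_assoc, ← h1, mul_one]
  obtain ⟨x, hxdef⟩ : ∃ x : ℕ → V, x = fun j => (M0 ^ j) v := ⟨_, rfl⟩
  obtain ⟨s, hsdef⟩ : ∃ s, s = shearS χ.coeff f.coeff n := ⟨_, rfl⟩
  obtain ⟨ζ, hζdef⟩ : ∃ ζ, ζ = hM.basis.constr F (fun i : Fin n => shearZ s i) := ⟨_, rfl⟩
  have hζ : ∀ i, i < n → ζ (x i) = shearZ s i := fun i hi => by
    rw [hxdef]
    show ζ ((M0 ^ i) v) = _
    rw [← hM.basis_apply ⟨i, hi⟩, hζdef, Module.Basis.constr_basis]
  have hx0 : x 0 = v := by simp [hxdef]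
  have hxs : ∀ j, M0 (x j) = x (j + 1) := fun j => by simp [hxdef, pow_succ']
  have hζv : ζ v = 0 := by
    have := hζ 0 hcyc.pos
    rw [hx0] at this
    simpa [shearZ] using this
  obtain ⟨Y, hY⟩ : ∃ Y : ℕ → V, Y = fun j => ∑ i ∈ Finset.range j, s i • x (j - i) := ⟨_, rfl⟩
  have hs0 : s 0 = 1 := by simp [hsdef, shearS]
  have hζY : ∀ j, j + 1 < n → ζ (Y (j + 1)) = s (j + 1) := fun j hj => by
    have h1 : shearZ s (j + 1) = s (j + 1) - ∑ i : Fin j, s (i.1 + 1) * shearZ s (j - i.1) := by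
      rw [shearZ]
    rw [hY, map_sum, Finset.sum_range_succ']
    simp only [map_smul, smul_eq_mul, hs0, one_mul, Nat.sub_zero]
    rw [hζ (j + 1) hj, h1, Finset.sum_range,
      Finset.sum_congr rfl (fun (i : Fin j) _ => show s (i.1 + 1) * ζ (x (j + 1 - (i.1 + 1))) =
        s (i.1 + 1) * shearZ s (j - i.1) by
          rw [Nat.succ_sub_succ, hζ _ (by omega)])]
    ring
  obtain ⟨T, hT⟩ : ∃ T, T = LinearMap.transvection ζ v := ⟨_, rfl⟩
  have hTx : ∀ y, T y = y + ζ y • v := fun y => by rw [hT, LinearMap.transvection.apply]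
  obtain ⟨M, hMdef⟩ : ∃ M, M = M0 * T := ⟨_, rfl⟩
  have hMx : ∀ y, M y = M0 y + ζ y • x 1 := fun y => by
    rw [hMdef, Module.End.mul_apply, hTx, map_add, map_smul, ← hxs 0, hx0]
  have hMv : M v = x 1 := by rw [hMx, hζv, zero_smul, add_zero, ← hxs 0, hx0]
  have hMY : ∀ j, j < n → (M ^ (j + 1)) v = Y (j + 1) := by
    intro j hj
    induction j with
    | zero => simp [hY, hs0, hMv]
    | succ j ih =>
      rw [pow_succ', Module.End.mul_apply, ih (by omega), hMx, hζY j hj, hY]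
      simp only [map_sum, map_smul, hxs]
      rw [Finset.sum_range_succ _ (j + 1), show j + 1 + 1 - (j + 1) = 1 by omega]
      congr 1
      exact Finset.sum_congr rfl fun i hi => by
        rw [Finset.mem_range] at hi
        rw [show j + 1 + 1 - i = j + 1 - i + 1 by omega]
  have hfn : f.coeff n = 1 := by
    rw [← hcyc.deg]; exact hcyc.monic.coeff_natDegree
  have hχn : χ.coeff n = 1 := by
    rw [← hM.deg]; exact hM.monic.coeff_natDegree
  have hfM : aeval M f v = 0 := by
    have h0 := hM.ann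
    rw [aeval_eq_sum_range' (n := n + 1) (by rw [hM.deg]; omega), LinearMap.sum_apply,
      Finset.sum_range_succ'] at h0
    rw [aeval_eq_sum_range' (n := n + 1) (by rw [hcyc.deg]; omega), LinearMap.sum_apply,
      Finset.sum_range_succ']
    simp only [LinearMap.smul_apply, pow_zero, Module.End.one_apply] at h0 ⊢
    rw [hχ0] at h0
    refine Eq.trans ?_ h0
    congr 1
    have h1 : ∀ j ∈ Finset.range n, f.coeff (j + 1) • (M ^ (j + 1)) v =
        ∑ i ∈ Finset.range (j + 1), (f.coeff (j + 1) * s i) • x (j + 1 - i) := fun j hj => by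
      rw [hMY j (Finset.mem_range.1 hj), hY, Finset.smul_sum]
      exact Finset.sum_congr rfl fun i _ => by rw [smul_smul]
    rw [Finset.sum_congr rfl h1]
    have h2 : ∀ k ∈ Finset.range n, χ.coeff (k + 1) • (M0 ^ (k + 1)) v =
        ∑ i ∈ Finset.range (n - k), (f.coeff (k + 1 + i) * s i) • x (k + 1) := fun k hk => by
      rw [Finset.mem_range] at hk
      rw [← Finset.sum_smul, hxdef, hsdef]
      congr 1
      have := shearS_spec χ.coeff f.coeff n hχn hfn (n - (k + 1)) (by omega)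
      rw [show n - (k + 1) + 1 = n - k by omega, show n - (n - (k + 1)) = k + 1 by omega] at this
      exact this.symm
    rw [Finset.sum_congr rfl h2, Finset.sum_sigma', Finset.sum_sigma']
    refine Finset.sum_nbij' (fun p => ⟨p.1 - p.2, p.2⟩) (fun p => ⟨p.1 + p.2, p.2⟩) ?_ ?_ ?_ ?_ ?_
    · rintro ⟨j, i⟩ h
      simp only [Finset.mem_sigma, Finset.mem_range] at h ⊢
      omega
    · rintro ⟨k, i⟩ h
      simp only [Finset.mem_sigma, Finset.mem_range] at h ⊢
      omega
    · rintro ⟨j, i⟩ h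
      simp only [Finset.mem_sigma, Finset.mem_range] at h
      simp only [Sigma.mk.injEq, heq_eq_eq, and_true]
      omega
    · rintro ⟨k, i⟩ h
      simp
    · rintro ⟨j, i⟩ h
      simp only [Finset.mem_sigma, Finset.mem_range] at h
      show (f.coeff (j + 1) * s i) • x (j + 1 - i) = (f.coeff (j - i + 1 + i) * s i) • x (j - i + 1)
      rw [show j - i + 1 + i = j + 1 by omega, show j - i + 1 = j + 1 - i by omega]
  have hMtop : Cyc M v = ⊤ := by
    rw [eq_top_iff, ← hM0]
    refine cyc_le (self_mem_cyc M v) fun y hy => ?_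
    have : M0 y = M y - ζ y • M v := by rw [hMx, hMv]; abel
    rw [this]
    exact Submodule.sub_mem _ (cyc_apply_mem hy) (Submodule.smul_mem _ _ (cyc_apply_mem (self_mem_cyc M v)))
  obtain ⟨P, hP⟩ := hcyc.exists_conj (⟨hcyc.pos, hcyc.dim, hcyc.monic, hcyc.deg, hfM, hMtop⟩ : IsCyc n M v f)
  have hvspan : ∀ w ∈ Submodule.span F ({v} : Set V), b0 w ∈ Submodule.span F ({v} : Set V) := by
    intro w hw
    obtain ⟨c, rfl⟩ := Submodule.mem_span_singleton.1 hw
    rw [map_smul, hv, smul_smul]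
    exact Submodule.smul_mem _ _ (Submodule.mem_span_singleton_self v)
  have hker : ∀ y, b0 y = α • y → y ∈ Submodule.span F ({v} : Set V) := by
    intro y hy
    obtain ⟨p, hp⟩ := exists_aeval (show y ∈ Cyc b0 u by rw [hcyc.top]; trivial)
    have hpow : ∀ i : ℕ, (b0 ^ i) y = α ^ i • y := by
      intro i
      induction i with
      | zero => simp
      | succ i ih => rw [pow_succ', Module.End.mul_apply, ih, map_smul, hy, smul_smul, pow_succ]
    have h1 : aeval b0 H y = H.eval α • y := by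
      rw [aeval_eq_sum_range, LinearMap.sum_apply, eval_eq_sum_range, Finset.sum_smul]
      exact Finset.sum_congr rfl fun i _ => by rw [LinearMap.smul_apply, hpow, smul_smul]
    have h2 : aeval b0 H y ∈ Submodule.span F ({v} : Set V) := by
      rw [hp, ← Module.End.mul_apply, ← map_mul, mul_comm, map_mul, Module.End.mul_apply]
      exact aeval_apply_mem hvspan hHu p
    rw [h1] at h2
    exact (Submodule.smul_mem_iff _ hHα).1 h2
  obtain ⟨L, hL⟩ : ∃ L, L = b0 - α • (LinearMap.id : V →ₗ[F] V) := ⟨_, rfl⟩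
  have hζL : α • ζ ∈ LinearMap.range L.dualMap := by
    rw [LinearMap.range_dualMap_eq_dualAnnihilator_ker, Submodule.mem_dualAnnihilator]
    intro w hw
    rw [LinearMap.mem_ker, hL] at hw
    simp only [LinearMap.sub_apply, LinearMap.smul_apply, LinearMap.id_apply, sub_eq_zero] at hw
    obtain ⟨c, rfl⟩ := Submodule.mem_span_singleton.1 (hker w hw)
    simp [hζv]
  obtain ⟨η₀, hη₀⟩ := hζL
  obtain ⟨η, hη⟩ : ∃ η, η = η₀ - η₀ v • φ := ⟨_, rfl⟩
  have hηv : η v = 0 := by rw [hη]; simp [hφ]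
  have hηb : ∀ y, η (b0 y) = α * η y + α * ζ y := fun y => by
    have h1 := LinearMap.congr_fun hη₀ y
    simp only [LinearMap.dualMap_apply, hL, LinearMap.sub_apply, LinearMap.smul_apply,
      LinearMap.id_apply, map_sub, map_smul, smul_eq_mul] at h1
    rw [hη]
    simp only [LinearMap.sub_apply, LinearMap.smul_apply, smul_eq_mul, hφb]
    linear_combination h1
  obtain ⟨P0, hP0⟩ : ∃ P0, P0 = LinearEquiv.transvection hηv := ⟨_, rfl⟩
  have hP0x : ∀ y, P0 y = y + η y • v := fun y => by rw [hP0, LinearEquiv.transvection.apply]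
  have hdP0 : LinearMap.det (P0.symm : V →ₗ[F] V) = 1 := by
    rw [← LinearEquiv.coe_det, LinearEquiv.det_symm, hP0, map_inv, LinearEquiv.transvection.det_eq_one]
    simp
  obtain ⟨b, hbdef⟩ : ∃ b, b = b0 * T := ⟨_, rfl⟩
  have hbP : ∀ y, P0 (b0 y) = b (P0 y) := fun y => by
    rw [hbdef, Module.End.mul_apply, hTx, hP0x, hP0x, map_add ζ, map_smul ζ, hζv, smul_zero, add_zero,
      hηb, map_add, map_add, map_smul, map_smul, hv, smul_smul, smul_smul]
    module
  obtain ⟨δ, hδ⟩ : ∃ δ, δ = (LinearMap.det (P : V →ₗ[F] V))⁻¹ := ⟨_, rfl⟩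
  obtain ⟨D, hD⟩ : ∃ D, D = LinearMap.transvection ((δ - 1) • φ) v := ⟨_, rfl⟩
  have hDb : ∀ y, D (b0 y) = b0 (D y) := fun y => by
    rw [hD, LinearMap.transvection.apply, LinearMap.transvection.apply, map_add, map_smul, hv,
      LinearMap.smul_apply, LinearMap.smul_apply, hφb, smul_smul]
    simp only [smul_eq_mul]
    module
  have hdP : LinearMap.det (P : V →ₗ[F] V) ≠ 0 := P.isUnit_det'.ne_zero
  refine ⟨(P : V →ₗ[F] V) * D * (P0.symm : V →ₗ[F] V), b, ?_, ?_, LinearMap.ext fun y => ?_⟩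
  · rw [map_mul, map_mul, hdP0, hD, LinearMap.transvection.det, LinearMap.smul_apply, hφ, smul_eq_mul,
      mul_one, mul_one, add_sub_cancel, hδ, mul_inv_cancel₀ hdP]
  · rw [hbdef, map_mul, hdb0, hT, LinearMap.transvection.det, hζv, add_zero, one_mul]
  · have h2 : P0.symm (b y) = b0 (P0.symm y) := by
      rw [LinearEquiv.symm_apply_eq, hbP, LinearEquiv.apply_symm_apply]
    simp only [Module.End.mul_apply, LinearEquiv.coe_coe]
    rw [h2, hDb, hP, hMdef, hM0def, hbdef]
    rfl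

end Cfsg.Agent.SLComm23
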