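import Cfsg.Agent.Lib.SLComm23.Cyclic

/-!
Scalar matrices of determinant one are commutators.
-/

set_option autoImplicit false

namespace Cfsg.Agent.SLComm23

open Matrix

variable {F V : Type*} [Field F] [AddCommGroup V] [Module F V]

theorem isComm_of_matrix [FiniteDimensional F V] {ι : Type*} [Fintype ι] [DecidableEq ι] (c : F)
    (hι : Fintype.card ι = Module.finrank F V) (a b : Matrix ι ι F) (ha : a.det = 1) (hb : b.det = 1)
    (h : a * b = c • (b * a)) : IsComm (c • (1 : V →ₗ[F] V)) := by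
  let z : Module.Basis ι F V :=
    (Module.finBasis F V).reindex ((Fintype.equivFinOfCardEq hι).symm)
  refine ⟨Matrix.toLin z z a, Matrix.toLin z z b, by rw [LinearMap.det_toLin, ha],
    by rw [LinearMap.det_toLin, hb], ?_⟩
  rw [Module.End.mul_eq_comp, Module.End.mul_eq_comp, Module.End.mul_eq_comp, ← Matrix.toLin_mul,
    ← Matrix.toLin_mul, h, map_smul, LinearMap.smul_comp]
  rfl

theorem permMatrix_mul_apply {ι : Type*} [Fintype ι] [DecidableEq ι] (σ : Equiv.Perm ι)
    (M : Matrix ι ι F) (i j : ι) : (σ.permMatrix F * M) i j = M (σ i) j := by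
  rw [PEquiv.toMatrix_toPEquiv_mul, Matrix.submatrix_apply, id]

theorem mul_permMatrix_apply {ι : Type*} [Fintype ι] [DecidableEq ι] (σ : Equiv.Perm ι)
    (M : Matrix ι ι F) (i j : ι) : (M * σ.permMatrix F) i j = M i (σ.symm j) := by
  rw [PEquiv.mul_toMatrix_toPEquiv, Matrix.submatrix_apply, id]

/-- The simple case. -/
theorem isComm_scalar_simple [FiniteDimensional F V] {m : ℕ} (hm : Module.finrank F V = m + 1) (c : F)
    (hc : c ^ (m + 1) = 1) (hsum : c ^ (∑ i : Fin (m + 1), (i : ℕ)) = 1) :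
    IsComm (c • (1 : V →ₗ[F] V)) := by
  obtain ⟨σ, hσ⟩ : ∃ σ : Equiv.Perm (Fin (m + 1)), σ = finRotate (m + 1) := ⟨_, rfl⟩
  obtain ⟨s, hs⟩ : ∃ s : F, s = ((Equiv.Perm.sign σ.symm : ℤ) : F) := ⟨_, rfl⟩
  have hs2 : s * s = 1 := by
    rcases Int.units_eq_one_or (Equiv.Perm.sign σ.symm) with h | h <;> rw [hs, h] <;> simp
  refine isComm_of_matrix c (by rw [Fintype.card_fin, hm]) (diagonal fun i : Fin (m + 1) => c ^ (i : ℕ))
    (Equiv.Perm.permMatrix F σ.symm * diagonal fun j => if j = Fin.last m then s else 1) ?_ ?_ ?_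
  · rw [det_diagonal, Finset.prod_pow_eq_pow_sum, hsum]
  · rw [det_mul, det_permutation, det_diagonal, Finset.prod_ite_eq' Finset.univ (Fin.last m),
      if_pos (Finset.mem_univ _), ← hs, hs2]
  · ext i j
    rw [Matrix.smul_apply, diagonal_mul, permMatrix_mul_apply, mul_diagonal, permMatrix_mul_apply]
    by_cases h : σ.symm i = j
    · have hi : i = σ j := by rw [← h, Equiv.apply_symm_apply]
      have hp : c ^ (i : ℕ) = c * c ^ (j : ℕ) := by
        rw [hi, hσ, coe_finRotate]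
        split_ifs with hl
        · rw [hl, Fin.val_last, ← pow_succ', hc, pow_zero]
        · rw [pow_succ']
      rw [h, diagonal_apply_eq, hp, smul_eq_mul]
      ring
    · rw [diagonal_apply_ne _ h, mul_zero, zero_mul, smul_zero]

/-- The case of a half power equal to minus one. -/
theorem isComm_scalar_half [Fintype F] (hF : Fintype.card F % 2 = 1) [FiniteDimensional F V] {h : ℕ}
    (hh : Module.finrank F V = 2 * h) (hpos : 0 < h) (c : F) (hc : c ^ h = -1) :
    IsComm (c • (1 : V →ₗ[F] V)) := by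
  have hc2 : c ^ (2 * h) = 1 := by rw [mul_comm, pow_mul, hc]; norm_num
  have hc0 : c ≠ 0 := fun e => by rw [e, zero_pow hpos.ne'] at hc; exact neg_ne_zero.2 one_ne_zero hc.symm
  obtain ⟨m, rfl⟩ : ∃ m, h = m + 1 := ⟨h - 1, by omega⟩
  obtain ⟨σ, hσ⟩ : ∃ σ : Equiv.Perm (Fin (m + 1)), σ = finRotate (m + 1) := ⟨_, rfl⟩
  obtain ⟨τ, hτ⟩ : ∃ τ : Equiv.Perm (Fin 2 × Fin (m + 1)), τ = (Equiv.refl _).prodCongr σ := ⟨_, rfl⟩
  obtain ⟨N, hN⟩ : ∃ N : F, N = (((Equiv.Perm.sign τ.symm : ℤ) : F) * c⁻¹ ^ (m + 1))⁻¹ := ⟨_, rfl⟩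
  have hsgn : ((Equiv.Perm.sign τ.symm : ℤ) : F) ≠ 0 := by
    rcases Int.units_eq_one_or (Equiv.Perm.sign τ.symm) with h | h <;> rw [h] <;> simp
  obtain ⟨x, y, hxy⟩ := FiniteField.exists_root_sum_quadratic (f := (Polynomial.X ^ 2 - Polynomial.C N))
    (g := Polynomial.C (-c) * Polynomial.X ^ 2) (Polynomial.degree_X_pow_sub_C (by omega) _)
    (Polynomial.degree_C_mul_X_pow 2 (neg_ne_zero.2 hc0)) hF
  simp only [Polynomial.eval_sub, Polynomial.eval_pow, Polynomial.eval_X, Polynomial.eval_C,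
    Polynomial.eval_mul] at hxy
  obtain ⟨A, hA⟩ : ∃ A : Fin (m + 1) → Matrix (Fin 2) (Fin 2) F,
      ∀ k, A k = !![0, c ^ (2 * (k : ℕ) + 1); 1, 0] := ⟨_, fun k => rfl⟩
  obtain ⟨T, hT⟩ : ∃ T : Matrix (Fin 2) (Fin 2) F, T = !![x, y * c; y, x] := ⟨_, rfl⟩
  obtain ⟨D, hD⟩ : ∃ D : Matrix (Fin 2) (Fin 2) F, D = !![1, 0; 0, c⁻¹] := ⟨_, rfl⟩
  obtain ⟨B, hB⟩ : ∃ B : Fin (m + 1) → Matrix (Fin 2) (Fin 2) F,
      ∀ k, B k = if k = Fin.last m then T * D else D := ⟨_, fun k => rfl⟩
  have hnext : ∀ k, c ^ (2 * ((σ k : Fin (m + 1)) : ℕ) + 1) = c * c * c ^ (2 * (k : ℕ) + 1) := by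
    intro k
    rw [hσ, coe_finRotate]
    split_ifs with hl
    · rw [hl, Fin.val_last]
      rw [show c * c * c ^ (2 * m + 1) = c ^ (2 * (m + 1)) * c by ring, hc2, one_mul]
      ring
    · ring
  have hAD : ∀ k, A (σ k) * D = c • (D * A k) := by
    intro k
    rw [hA, hA, hD, hnext]
    ext i j
    fin_cases i <;> fin_cases j <;> simp [Matrix.mul_apply, Fin.sum_univ_two] <;> field_simp
  have hAB : ∀ k, A (σ k) * B k = c • (B k * A k) := by
    intro k
    rw [hB]
    split_ifs with hk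
    · have hcomm : A (σ k) * T = T * A (σ k) := by
        have : ((σ k : Fin (m + 1)) : ℕ) = 0 := by rw [hσ, coe_finRotate, if_pos hk]
        rw [hA, this, hT]
        ext i j
        fin_cases i <;> fin_cases j <;> simp [Matrix.mul_apply, Fin.sum_univ_two] <;> ring
      rw [← Matrix.mul_assoc, hcomm, Matrix.mul_assoc, hAD, Matrix.mul_smul, Matrix.mul_assoc]
    · exact hAD k
  refine isComm_of_matrix c (by rw [Fintype.card_prod, Fintype.card_fin, Fintype.card_fin, hh])
    (blockDiagonal A) (Equiv.Perm.permMatrix F τ.symm * blockDiagonal B) ?_ ?_ ?_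
  · rw [det_blockDiagonal]
    have : ∀ k, (A k).det = -1 * (c * c ^ (2 * (k : ℕ))) := fun k => by
      rw [hA, det_fin_two]; simp; ring
    simp only [this, Finset.prod_mul_distrib, Finset.prod_const, Finset.card_univ, Fintype.card_fin,
      Finset.prod_pow_eq_pow_sum]
    rw [← pow_add, ← Finset.mul_sum, Fin.sum_univ_eq_sum_range (fun i => i), mul_comm 2,
      Finset.sum_range_id_mul_two, show m + 1 + (m + 1) * (m + 1 - 1) = (m + 1) * (m + 1) by
        rw [Nat.add_sub_cancel]; ring,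
      pow_mul c, hc, ← mul_pow]
    norm_num
  · rw [det_mul, det_permutation, det_blockDiagonal]
    have hBd : ∀ k, (B k).det = c⁻¹ * (if k = Fin.last m then N else 1) := fun k => by
      have hTd : T.det = N := by rw [hT, det_fin_two]; simp; linear_combination hxy
      have hDd : D.det = c⁻¹ := by rw [hD, det_fin_two]; simp
      rw [hB]
      split_ifs
      · rw [det_mul, hTd, hDd, mul_comm]
      · rw [hDd, mul_one]
    simp only [hBd, Finset.prod_mul_distrib, Finset.prod_const, Finset.card_univ, Fintype.card_fin]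
    rw [Finset.prod_ite_eq' Finset.univ (Fin.last m), if_pos (Finset.mem_univ _), hN, ← mul_assoc,
      mul_inv_cancel₀ (mul_ne_zero hsgn (pow_ne_zero _ (inv_ne_zero hc0)))]
  · have hcomm : blockDiagonal A * Equiv.Perm.permMatrix F τ.symm =
        Equiv.Perm.permMatrix F τ.symm * blockDiagonal (fun k => A (σ k)) := by
      ext ⟨i, k⟩ ⟨j, l⟩
      rw [mul_permMatrix_apply, permMatrix_mul_apply, Equiv.symm_symm, hτ]
      rw [show ((Equiv.refl (Fin 2)).prodCongr σ) (j, l) = (j, σ l) from rfl,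
        show (((Equiv.refl (Fin 2)).prodCongr σ).symm) (i, k) = (i, σ.symm k) from rfl,
        blockDiagonal_apply, blockDiagonal_apply]
      dsimp only
      by_cases hkl : σ.symm k = l
      · subst hkl; simp
      · rw [if_neg hkl, if_neg (fun e => hkl (by rw [e, Equiv.symm_apply_apply]))]
    rw [← Matrix.mul_assoc, hcomm, Matrix.mul_assoc, Matrix.mul_assoc, ← blockDiagonal_mul,
      ← blockDiagonal_mul, ← Matrix.mul_smul, ← blockDiagonal_smul]
    congr 2
    funext k
    exact hAB k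

theorem isComm_scalar [Fintype F] [FiniteDimensional F V] {n : ℕ} (hn : Module.finrank F V = n)
    (hpos : 0 < n) (c : F) (hc : c ^ n = 1) : IsComm (c • (1 : V →ₗ[F] V)) := by
  obtain ⟨m, rfl⟩ : ∃ m, n = m + 1 := ⟨n - 1, by omega⟩
  have hsum : (∑ i : Fin (m + 1), (i : ℕ)) * 2 = (m + 1) * m := by
    rw [Fin.sum_univ_eq_sum_range (fun i => i), Finset.sum_range_id_mul_two, Nat.add_sub_cancel]
  rcases Nat.even_or_odd' m with ⟨k, rfl | rfl⟩
  · refine isComm_scalar_simple hn c hc ?_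
    rw [show (∑ i : Fin (2 * k + 1), (i : ℕ)) = (2 * k + 1) * k by
      nlinarith [hsum], pow_mul, hc, one_pow]
  · have hk : c ^ (k + 1) * c ^ (k + 1) = 1 := by rw [← pow_add]; convert hc using 2; ring
    rcases mul_self_eq_one_iff.1 hk with h1 | h1
    · refine isComm_scalar_simple hn c hc ?_
      rw [show (∑ i : Fin (2 * k + 1 + 1), (i : ℕ)) = (k + 1) * (2 * k + 1) by
        nlinarith [hsum], pow_mul, h1, one_pow]
    · by_cases h2 : ringChar F = 2
      · refine isComm_scalar_simple hn c hc ?_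
        haveI := ringChar.of_eq h2
        rw [show (∑ i : Fin (2 * k + 1 + 1), (i : ℕ)) = (k + 1) * (2 * k + 1) by
          nlinarith [hsum], pow_mul, h1, neg_one_eq_one_iff.2 h2, one_pow]
      · exact isComm_scalar_half (FiniteField.odd_card_of_char_ne_two h2) (h := k + 1)
          (by rw [hn]; ring) (by omega) c h1

end Cfsg.Agent.SLComm23
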