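import Mathlib

/-!
Witnesses for the small companion matrices over fields with two and three elements.
-/

set_option autoImplicit false

namespace Cfsg.Agent.SLComm23

/-- The companion matrix with last column `cs`. -/
def compM {R : Type*} [Zero R] [One R] {m : ℕ} (cs : Fin m → R) : Matrix (Fin m) (Fin m) R :=
  Matrix.of fun i j => if (j : ℕ) + 1 < m then (if (i : ℕ) = (j : ℕ) + 1 then 1 else 0) else cs i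

/-- Two companion matrices of size two. -/
def pairM {R : Type*} [Zero R] [One R] (a b : R) : Matrix (Fin 4) (Fin 4) R :=
  !![0, 1, 0, 0; 1, a, 0, 0; 0, 0, 0, 1; 0, 0, 1, b]

/-- A commutator certificate by invertible matrices. -/
def Wit {p m : ℕ} (G : Matrix (Fin m) (Fin m) (ZMod p)) : Prop :=
  ∃ A A' B B' : Matrix (Fin m) (Fin m) (ZMod p), A * A' = 1 ∧ B * B' = 1 ∧ G * (B * A) = A * B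

/-- A commutator certificate by matrices of determinant one. -/
def Wit1 {p m : ℕ} (G : Matrix (Fin m) (Fin m) (ZMod p)) : Prop :=
  ∃ A B : Matrix (Fin m) (Fin m) (ZMod p), A.det = 1 ∧ B.det = 1 ∧ G * (B * A) = A * B

theorem wit_two_three : ∀ a b : ZMod 2, Wit (compM ![1, a, b]) := by
  intro a b
  fin_cases a <;> fin_cases b
  · exact ⟨!![1, 1, 0; 0, 0, 1; 0, 1, 0], !![1, 0, 1; 0, 0, 1; 0, 1, 0], !![1, 0, 1; 0, 1, 1; 1, 0, 0], !![0, 0, 1; 1, 1, 1; 1, 0, 1], by decide, by decide, by decide⟩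
  · exact ⟨!![0, 1, 0; 1, 1, 0; 0, 0, 1], !![1, 1, 0; 1, 0, 0; 0, 0, 1], !![1, 1, 1; 0, 1, 0; 1, 0, 0], !![0, 0, 1; 0, 1, 0; 1, 1, 1], by decide, by decide, by decide⟩
  · exact ⟨!![0, 0, 1; 1, 1, 0; 1, 0, 1], !![1, 0, 1; 1, 1, 1; 1, 0, 0], !![0, 0, 1; 1, 1, 1; 0, 1, 1], !![0, 1, 1; 1, 0, 1; 1, 0, 0], by decide, by decide, by decide⟩
  · exact ⟨!![0, 1, 1; 1, 0, 0; 1, 0, 1], !![0, 1, 0; 1, 1, 1; 0, 1, 1], !![1, 1, 1; 1, 0, 0; 0, 0, 1], !![0, 1, 0; 1, 1, 1; 0, 0, 1], by decide, by decide, by decide⟩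

theorem wit_two_five : ∀ a b c d : ZMod 2, Wit (compM ![1, a, b, c, d]) := by
  intro a b c d
  fin_cases a <;> fin_cases b <;> fin_cases c <;> fin_cases d
  · exact ⟨!![0, 1, 0, 1, 1; 1, 0, 1, 1, 1; 0, 0, 0, 1, 1; 0, 0, 1, 0, 1; 0, 0, 0, 1, 0], !![0, 1, 0, 1, 1; 1, 0, 1, 0, 0; 0, 0, 1, 1, 1; 0, 0, 0, 0, 1; 0, 0, 1, 0, 1], !![1, 0, 0, 1, 0; 1, 1, 0, 1, 0; 0, 0, 1, 0, 1; 1, 1, 1, 0, 1; 0, 0, 1, 0, 0], !![1, 1, 1, 1, 0; 1, 1, 0, 0, 0; 0, 0, 0, 0, 1; 0, 1, 1, 1, 0; 0, 0, 1, 0, 1], by decide, by decide, by decide⟩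
  · exact ⟨!![0, 1, 0, 1, 1; 1, 0, 0, 1, 0; 0, 0, 1, 0, 0; 0, 1, 1, 0, 0; 0, 0, 0, 0, 1], !![1, 1, 1, 1, 1; 0, 0, 1, 1, 0; 0, 0, 1, 0, 0; 1, 0, 1, 1, 1; 0, 0, 0, 0, 1], !![0, 1, 1, 0, 0; 0, 1, 1, 1, 1; 1, 1, 0, 1, 1; 1, 1, 0, 1, 0; 1, 0, 0, 1, 0], !![1, 1, 1, 1, 1; 0, 0, 0, 1, 1; 1, 0, 0, 1, 1; 1, 1, 1, 1, 0; 0, 0, 1, 1, 0], by decide, by decide, by decide⟩
  · exact ⟨!![1, 1, 0, 1, 0; 0, 1, 0, 1, 0; 0, 1, 0, 1, 1; 0, 1, 1, 0, 0; 0, 1, 0, 0, 0], !![1, 1, 0, 0, 0; 0, 0, 0, 0, 1; 0, 0, 0, 1, 1; 0, 1, 0, 0, 1; 0, 1, 1, 0, 0], !![0, 1, 1, 1, 1; 0, 1, 1, 1, 0; 1, 0, 0, 1, 0; 0, 1, 0, 1, 1; 0, 1, 0, 0, 0], !![1, 1, 1, 1, 1; 0, 0, 0, 0, 1; 1, 0, 0, 1, 0; 1, 1, 0, 1, 1; 1, 1, 0, 0, 0], by decide, by decide, by decide⟩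
  · exact ⟨!![1, 0, 0, 0, 0; 0, 0, 1, 1, 0; 0, 1, 0, 1, 1; 1, 1, 0, 0, 0; 0, 0, 1, 0, 0], !![1, 0, 0, 0, 0; 1, 0, 0, 1, 0; 0, 0, 0, 0, 1; 0, 1, 0, 0, 1; 1, 1, 1, 1, 1], !![1, 1, 0, 0, 1; 0, 1, 0, 1, 0; 1, 1, 0, 1, 1; 0, 1, 0, 0, 1; 1, 1, 1, 0, 1], !![1, 0, 0, 1, 0; 1, 1, 1, 0, 0; 1, 0, 0, 0, 1; 1, 0, 1, 0, 0; 1, 1, 1, 1, 0], by decide, by decide, by decide⟩
  · exact ⟨!![0, 1, 1, 1, 1; 0, 0, 0, 0, 1; 1, 1, 0, 1, 0; 0, 0, 1, 0, 0; 1, 1, 0, 0, 0], !![1, 1, 1, 1, 0; 1, 1, 1, 1, 1; 0, 0, 0, 1, 0; 0, 0, 1, 0, 1; 0, 1, 0, 0, 0], !![0, 1, 1, 0, 1; 0, 1, 0, 1, 1; 1, 0, 0, 1, 1; 0, 0, 1, 1, 1; 0, 0, 0, 1, 1], !![0, 0, 1, 0, 1; 0, 1, 0, 0, 1; 0, 0, 0, 1, 1; 1, 1, 0, 1, 1; 1, 1, 0, 1, 0], by decide, by decide, by decide⟩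
  · exact ⟨!![1, 1, 0, 1, 0; 1, 1, 0, 1, 1; 0, 1, 0, 1, 0; 0, 1, 1, 0, 0; 0, 0, 0, 1, 0], !![1, 0, 1, 0, 0; 0, 0, 1, 0, 1; 0, 0, 1, 1, 1; 0, 0, 0, 0, 1; 1, 1, 0, 0, 0], !![0, 0, 1, 0, 0; 0, 0, 1, 1, 1; 1, 0, 1, 0, 1; 1, 1, 0, 0, 1; 1, 0, 0, 0, 0], !![0, 0, 0, 0, 1; 1, 0, 1, 1, 0; 1, 0, 0, 0, 0; 0, 1, 1, 0, 1; 1, 0, 1, 0, 1], by decide, by decide, by decide⟩
  · exact ⟨!![0, 0, 1, 0, 1; 1, 0, 0, 1, 1; 0, 1, 0, 1, 0; 0, 0, 0, 1, 0; 0, 0, 0, 0, 1], !![0, 1, 0, 1, 1; 0, 0, 1, 1, 0; 1, 0, 0, 0, 1; 0, 0, 0, 1, 0; 0, 0, 0, 0, 1], !![1, 0, 0, 1, 0; 0, 1, 0, 1, 0; 0, 1, 1, 1, 0; 1, 0, 0, 1, 1; 0, 0, 1, 1, 0], !![1, 1, 1, 0, 1; 0, 0, 1, 0, 1; 0, 1, 1, 0, 0; 0, 1, 1, 0, 1; 1, 0, 0, 1, 0], by decide, by decide, by decide⟩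
  · exact ⟨!![0, 1, 0, 0, 0; 1, 1, 1, 0, 0; 1, 1, 1, 1, 0; 1, 1, 0, 0, 1; 0, 0, 0, 0, 1], !![1, 0, 0, 1, 1; 1, 0, 0, 0, 0; 0, 1, 0, 1, 1; 0, 1, 1, 0, 0; 0, 0, 0, 0, 1], !![1, 0, 1, 0, 1; 0, 1, 0, 0, 1; 0, 1, 0, 1, 1; 0, 0, 0, 1, 1; 1, 0, 0, 0, 1], !![0, 1, 1, 1, 1; 0, 0, 1, 1, 0; 1, 0, 0, 0, 1; 0, 1, 1, 0, 0; 0, 1, 1, 1, 0], by decide, by decide, by decide⟩
  · exact ⟨!![1, 1, 1, 1, 1; 0, 1, 0, 0, 0; 0, 1, 0, 1, 1; 0, 0, 1, 1, 1; 0, 0, 0, 1, 0], !![1, 1, 0, 1, 0; 0, 1, 0, 0, 0; 0, 1, 1, 1, 0; 0, 0, 0, 0, 1; 0, 1, 1, 0, 1], !![1, 1, 0, 1, 1; 0, 1, 1, 0, 1; 0, 0, 1, 0, 1; 1, 1, 1, 0, 0; 1, 0, 0, 0, 0], !![0, 0, 0, 0, 1; 0, 1, 1, 0, 0; 0, 1, 1, 1, 1; 1, 0, 1, 1, 0; 0, 1, 0, 1, 1], by decide, by decide, by decide⟩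
  · exact ⟨!![0, 0, 1, 1, 0; 1, 0, 0, 0, 1; 0, 0, 0, 1, 1; 0, 1, 1, 0, 1; 0, 0, 0, 0, 1], !![0, 1, 0, 0, 1; 1, 0, 1, 1, 0; 1, 0, 1, 0, 1; 0, 0, 1, 0, 1; 0, 0, 0, 0, 1], !![0, 1, 1, 0, 1; 0, 0, 1, 0, 0; 1, 1, 1, 0, 1; 0, 1, 1, 1, 1; 0, 1, 1, 0, 0], !![1, 0, 1, 0, 0; 0, 1, 0, 0, 1; 0, 1, 0, 0, 0; 1, 0, 0, 1, 0; 1, 0, 0, 0, 1], by decide, by decide, by decide⟩
  · exact ⟨!![0, 0, 1, 0, 0; 0, 1, 1, 0, 0; 1, 1, 0, 1, 0; 1, 0, 0, 0, 1; 0, 0, 0, 0, 1], !![0, 0, 0, 1, 1; 1, 1, 0, 0, 0; 1, 0, 0, 0, 0; 1, 1, 1, 1, 1; 0, 0, 0, 0, 1], !![1, 0, 1, 0, 1; 1, 1, 1, 1, 1; 1, 0, 1, 1, 0; 0, 1, 0, 0, 0; 0, 1, 1, 0, 0], !![1, 1, 1, 0, 1; 0, 0, 0, 1, 0; 0, 0, 0, 1, 1; 1, 1, 0, 1, 0; 0, 1, 1, 1, 0], by decide, by decide, by decide⟩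
  · exact ⟨!![1, 1, 1, 1, 0; 1, 1, 0, 0, 0; 0, 1, 0, 1, 1; 1, 0, 0, 0, 1; 0, 0, 0, 0, 1], !![0, 0, 0, 1, 1; 0, 1, 0, 1, 1; 1, 0, 1, 1, 0; 0, 1, 1, 1, 0; 0, 0, 0, 0, 1], !![1, 0, 1, 0, 0; 0, 1, 1, 0, 1; 1, 0, 1, 1, 1; 0, 0, 0, 1, 0; 1, 1, 1, 0, 1], !![0, 1, 0, 0, 1; 0, 0, 1, 1, 1; 1, 1, 0, 0, 1; 0, 0, 0, 1, 0; 1, 0, 1, 1, 0], by decide, by decide, by decide⟩
  · exact ⟨!![0, 1, 1, 0, 0; 0, 0, 0, 1, 0; 1, 1, 0, 0, 1; 1, 0, 0, 1, 1; 0, 0, 0, 0, 1], !![0, 1, 0, 1, 1; 0, 1, 1, 1, 0; 1, 1, 1, 1, 0; 0, 1, 0, 0, 0; 0, 0, 0, 0, 1], !![1, 0, 1, 1, 1; 0, 1, 0, 0, 1; 1, 0, 0, 0, 1; 1, 1, 1, 1, 1; 0, 0, 1, 0, 1], !![1, 1, 1, 1, 0; 1, 0, 0, 1, 0; 1, 1, 0, 1, 1; 0, 1, 1, 1, 1; 1, 1, 0, 1, 0], by decide, by decide, by decide⟩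
  · exact ⟨!![0, 1, 0, 1, 1; 1, 1, 0, 0, 1; 1, 1, 1, 1, 1; 1, 0, 0, 0, 0; 0, 0, 0, 0, 1], !![0, 0, 0, 1, 0; 0, 1, 0, 1, 1; 1, 0, 1, 1, 0; 1, 1, 0, 1, 0; 0, 0, 0, 0, 1], !![0, 1, 0, 0, 0; 1, 1, 0, 1, 1; 0, 1, 0, 1, 1; 1, 0, 0, 0, 1; 0, 1, 1, 0, 1], !![0, 1, 1, 0, 0; 1, 0, 0, 0, 0; 1, 1, 1, 1, 1; 1, 1, 0, 1, 0; 0, 1, 1, 1, 0], by decide, by decide, by decide⟩
  · exact ⟨!![0, 1, 1, 0, 0; 1, 0, 1, 0, 1; 1, 1, 1, 0, 0; 0, 0, 1, 1, 0; 0, 0, 0, 1, 0], !![1, 0, 1, 0, 0; 1, 0, 0, 1, 1; 0, 0, 0, 1, 1; 0, 0, 0, 0, 1; 1, 1, 1, 1, 1], !![1, 0, 0, 0, 1; 0, 1, 0, 1, 1; 1, 1, 0, 1, 1; 1, 0, 1, 1, 0; 1, 0, 1, 0, 0], !![0, 1, 1, 0, 0; 1, 0, 1, 1, 1; 0, 1, 1, 0, 1; 0, 0, 0, 1, 1; 1, 1, 1, 0, 0], by decide, by decide, by decide⟩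
  · exact ⟨!![0, 0, 0, 1, 1; 1, 1, 1, 0, 0; 0, 1, 0, 0, 0; 1, 1, 0, 0, 0; 1, 0, 1, 1, 0], !![0, 0, 1, 1, 0; 0, 0, 1, 0, 0; 0, 1, 0, 1, 0; 0, 1, 1, 0, 1; 1, 1, 1, 0, 1], !![1, 1, 0, 1, 0; 1, 0, 1, 1, 1; 1, 1, 0, 0, 0; 1, 1, 0, 0, 1; 0, 1, 0, 1, 1], !![1, 0, 1, 1, 1; 1, 0, 0, 1, 1; 0, 1, 1, 0, 1; 1, 0, 1, 0, 0; 0, 0, 1, 1, 0], by decide, by decide, by decide⟩

theorem wit_two_pair : ∀ a b : ZMod 2, Wit (pairM a b) := by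
  intro a b
  fin_cases a <;> fin_cases b
  · exact ⟨!![1, 0, 1, 0; 1, 1, 1, 0; 1, 1, 0, 0; 0, 0, 0, 1], !![1, 1, 1, 0; 1, 1, 0, 0; 0, 1, 1, 0; 0, 0, 0, 1], !![0, 0, 1, 0; 1, 0, 1, 1; 0, 1, 0, 1; 1, 1, 1, 1], !![1, 0, 1, 1; 0, 1, 0, 1; 1, 0, 0, 0; 0, 1, 1, 1], by decide, by decide, by decide⟩
  · exact ⟨!![1, 1, 1, 0; 1, 0, 1, 0; 0, 1, 1, 1; 1, 0, 0, 0], !![0, 0, 0, 1; 1, 1, 0, 0; 0, 1, 0, 1; 1, 0, 1, 1], !![1, 1, 0, 1; 0, 0, 1, 1; 0, 0, 0, 1; 0, 1, 1, 1], !![1, 1, 1, 1; 0, 1, 0, 1; 0, 1, 1, 0; 0, 0, 1, 0], by decide, by decide, by decide⟩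
  · exact ⟨!![0, 1, 1, 1; 1, 1, 0, 1; 1, 1, 1, 1; 0, 0, 0, 1], !![1, 0, 1, 0; 1, 1, 1, 1; 0, 1, 1, 0; 0, 0, 0, 1], !![0, 1, 1, 1; 0, 1, 0, 1; 0, 1, 0, 0; 1, 1, 0, 1], !![0, 1, 0, 1; 0, 0, 1, 0; 1, 1, 0, 0; 0, 1, 1, 0], by decide, by decide, by decide⟩
  · exact ⟨!![1, 1, 1, 1; 1, 0, 0, 1; 1, 1, 0, 1; 0, 0, 0, 1], !![0, 1, 0, 1; 0, 1, 1, 0; 1, 0, 1, 0; 0, 0, 0, 1], !![1, 0, 1, 1; 1, 0, 0, 1; 1, 0, 1, 0; 0, 1, 1, 0], !![1, 1, 1, 0; 1, 1, 0, 1; 1, 1, 0, 0; 1, 0, 1, 0], by decide, by decide, by decide⟩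

theorem wit_three_three : ∀ a b : ZMod 3, Wit1 (compM ![1, a, b]) := by
  intro a b
  fin_cases a <;> fin_cases b
  · exact ⟨!![2, 0, 0; 2, 1, 0; 1, 0, 2], !![2, 2, 2; 0, 1, 0; 0, 1, 2], by decide, by decide, by decide⟩
  · exact ⟨!![0, 2, 0; 1, 1, 0; 0, 0, 1], !![1, 0, 2; 2, 2, 0; 0, 1, 0], by decide, by decide, by decide⟩
  · exact ⟨!![0, 2, 1; 2, 1, 1; 0, 2, 0], !![0, 1, 0; 0, 1, 2; 2, 1, 2], by decide, by decide, by decide⟩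
  · exact ⟨!![2, 0, 2; 1, 1, 1; 0, 1, 2], !![0, 0, 2; 2, 2, 0; 2, 0, 0], by decide, by decide, by decide⟩
  · exact ⟨!![0, 2, 2; 1, 0, 2; 0, 0, 1], !![2, 2, 0; 0, 2, 2; 1, 2, 2], by decide, by decide, by decide⟩
  · exact ⟨!![0, 2, 0; 1, 2, 0; 0, 0, 1], !![2, 2, 2; 1, 0, 0; 1, 2, 0], by decide, by decide, by decide⟩
  · exact ⟨!![0, 2, 0; 1, 0, 2; 0, 0, 1], !![1, 1, 1; 2, 1, 1; 1, 1, 0], by decide, by decide, by decide⟩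
  · exact ⟨!![0, 1, 0; 0, 0, 1; 1, 1, 0], !![2, 0, 0; 1, 0, 2; 2, 2, 1], by decide, by decide, by decide⟩
  · exact ⟨!![1, 0, 1; 1, 1, 0; 0, 0, 1], !![2, 0, 1; 0, 1, 1; 1, 2, 0], by decide, by decide, by decide⟩

end Cfsg.Agent.SLComm23
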