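import Cfsg.Agent.Lib.SLComm23.Blocks
import Cfsg.Agent.Lib.SLComm23.Tables

/-!
The small exceptional cases and gluing over the field with two elements.
-/

set_option autoImplicit false

namespace Cfsg.Agent.SLComm23

variable {F V : Type*} [Field F] [AddCommGroup V] [Module F V]

/-- `g` is a commutator of invertible maps on the invariant subspace `S`. -/
def CommOn (g : V →ₗ[F] V) (S : Submodule F V) : Prop :=
  ∃ a b : V →ₗ[F] V, (∀ x ∈ S, a x ∈ S ∧ b x ∈ S ∧ g (b (a x)) = a (b x)) ∧
    (∀ x ∈ S, a x = 0 → x = 0) ∧ (∀ x ∈ S, b x = 0 → x = 0)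

theorem commOn_bot (g : V →ₗ[F] V) : CommOn g ⊥ :=
  ⟨1, 1, fun x hx => by simp [(Submodule.mem_bot F).1 hx], fun x _ h => h, fun x _ h => h⟩

theorem commOn_sup {g : V →ₗ[F] V} {S T : Submodule F V} (hd : Disjoint S T) (hS : CommOn g S)
    (hT : CommOn g T) : CommOn g (S ⊔ T) := by
  obtain ⟨a1, b1, h1, ha1, hb1⟩ := hS
  obtain ⟨a2, b2, h2, ha2, hb2⟩ := hT
  have hker : LinearMap.ker (S.subtype.coprod T.subtype) = ⊥ := by
    rw [LinearMap.ker_eq_bot']
    rintro ⟨⟨x, hx⟩, ⟨y, hy⟩⟩ h
    simp only [LinearMap.coprod_apply, Submodule.subtype_apply] at h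
    have hxT : x ∈ T := by rw [eq_neg_of_add_eq_zero_left h]; exact T.neg_mem hy
    have hx0 : x = 0 := Submodule.disjoint_def.1 hd x hx hxT
    subst hx0
    rw [zero_add] at h
    subst h
    rfl
  obtain ⟨r, hr⟩ := LinearMap.exists_leftInverse_of_injective _ hker
  have hr' : ∀ x (hx : x ∈ S) y (hy : y ∈ T), r (x + y) = (⟨x, hx⟩, ⟨y, hy⟩) := fun x hx y hy => by
    have := LinearMap.congr_fun hr (⟨x, hx⟩, ⟨y, hy⟩)
    simpa using this
  refine ⟨a1.comp (S.subtype.comp ((LinearMap.fst F S T).comp r)) +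
      a2.comp (T.subtype.comp ((LinearMap.snd F S T).comp r)),
    b1.comp (S.subtype.comp ((LinearMap.fst F S T).comp r)) +
      b2.comp (T.subtype.comp ((LinearMap.snd F S T).comp r)), ?_, ?_, ?_⟩
  · intro z hz
    obtain ⟨x, hx, y, hy, rfl⟩ := Submodule.mem_sup.1 hz
    obtain ⟨u1, u2, u3⟩ := h1 x hx
    obtain ⟨w1, w2, w3⟩ := h2 y hy
    simp only [LinearMap.add_apply, LinearMap.comp_apply, LinearMap.fst_apply, LinearMap.snd_apply,
      Submodule.subtype_apply, hr' x hx y hy]
    refine ⟨Submodule.add_mem_sup u1 w1, Submodule.add_mem_sup u2 w2, ?_⟩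
    rw [hr' _ u1 _ w1, hr' _ u2 _ w2]
    simp only [map_add, u3, w3]
  · intro z hz h0
    obtain ⟨x, hx, y, hy, rfl⟩ := Submodule.mem_sup.1 hz
    simp only [LinearMap.add_apply, LinearMap.comp_apply, LinearMap.fst_apply, LinearMap.snd_apply,
      Submodule.subtype_apply, hr' x hx y hy] at h0
    have hxT : a1 x ∈ T := by rw [eq_neg_of_add_eq_zero_left h0]; exact T.neg_mem (h2 y hy).1
    have e1 : a1 x = 0 := Submodule.disjoint_def.1 hd _ (h1 x hx).1 hxT
    rw [e1, zero_add] at h0
    rw [ha1 x hx e1, ha2 y hy h0, add_zero]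
  · intro z hz h0
    obtain ⟨x, hx, y, hy, rfl⟩ := Submodule.mem_sup.1 hz
    simp only [LinearMap.add_apply, LinearMap.comp_apply, LinearMap.fst_apply, LinearMap.snd_apply,
      Submodule.subtype_apply, hr' x hx y hy] at h0
    have hxT : b1 x ∈ T := by rw [eq_neg_of_add_eq_zero_left h0]; exact T.neg_mem (h2 y hy).2.1
    have e1 : b1 x = 0 := Submodule.disjoint_def.1 hd _ (h1 x hx).2.1 hxT
    rw [e1, zero_add] at h0
    rw [hb1 x hx e1, hb2 y hy h0, add_zero]

theorem isComm_of_commOn_top [FiniteDimensional F V] (h2 : ∀ a : F, a ≠ 0 → a = 1) {g : V →ₗ[F] V}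
    (h : CommOn g ⊤) : IsComm g := by
  obtain ⟨a, b, h1, ha, hb⟩ := h
  have hdet : ∀ f : V →ₗ[F] V, (∀ x, f x = 0 → x = 0) → LinearMap.det f = 1 := fun f hf => by
    have hi : Function.Injective f := (injective_iff_map_eq_zero f).2 hf
    exact h2 _ (LinearEquiv.ofBijective f ⟨hi, LinearMap.injective_iff_surjective.1 hi⟩).isUnit_det'.ne_zero
  exact ⟨a, b, hdet a fun x => ha x trivial, hdet b fun x => hb x trivial,
    LinearMap.ext fun x => (h1 x trivial).2.2⟩

theorem map_eq {p m : ℕ} (φ : ZMod p →+* F) {G A B : Matrix (Fin m) (Fin m) (ZMod p)}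
    (h : G * (B * A) = A * B) :
    G.map φ * (B.map φ * A.map φ) = A.map φ * B.map φ := by
  rw [← Matrix.map_mul, ← Matrix.map_mul, ← Matrix.map_mul, h]

/-- The operator on `V` defined by a matrix in terms of independent vectors. -/
theorem commOn_of_wit {p m : ℕ} (φ : ZMod p →+* F) {g : V →ₗ[F] V} (z : Fin m → V)
    (hz : LinearIndependent F z) (G : Matrix (Fin m) (Fin m) (ZMod p))
    (hG : ∀ j, g (z j) = ∑ i, φ (G i j) • z i) (hw : Wit G) :
    CommOn g (Submodule.span F (Set.range z)) := by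
  classical
  obtain ⟨A, A', B, B', hA, hB, hGBA⟩ := hw
  obtain ⟨ι, hι⟩ : ∃ ι, ι = Fintype.linearCombination F z := ⟨_, rfl⟩
  obtain ⟨r, hr⟩ := LinearMap.exists_leftInverse_of_injective ι (by
    rw [hι, LinearMap.ker_eq_bot']
    exact fun c hc => funext (Fintype.linearIndependent_iff.1 hz c
      (by rw [← Fintype.linearCombination_apply]; exact hc)))
  have hr' : ∀ c, r (ι c) = c := fun c => LinearMap.congr_fun hr c
  have hgι : ∀ c, g (ι c) = ι (Matrix.toLin' (G.map φ) c) := fun c => by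
    suffices h : g.comp ι = ι.comp (Matrix.toLin' (G.map φ)) from LinearMap.congr_fun h c
    refine (Pi.basisFun F (Fin m)).ext fun j => ?_
    simp only [LinearMap.comp_apply, hι, Pi.basisFun_apply, Matrix.toLin'_apply, Matrix.mulVec_single_one,
      Fintype.linearCombination_apply_single, one_smul, hG]
    simp only [Fintype.linearCombination_apply, Matrix.col_apply, Matrix.map_apply]
  refine ⟨ι.comp ((Matrix.toLin' (A.map φ)).comp r), ι.comp ((Matrix.toLin' (B.map φ)).comp r), ?_, ?_, ?_⟩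
  all_goals
    intro x hx
    have hx' : ∃ c, ι c = x := by
      rw [hι]
      exact (Submodule.mem_span_range_iff_exists_fun F).1 hx |>.imp fun c hc => by
        rw [Fintype.linearCombination_apply]; exact hc
    obtain ⟨c, rfl⟩ := hx'
  · have hmem : ∀ c, ι c ∈ Submodule.span F (Set.range z) := fun c => by
      rw [hι, Fintype.linearCombination_apply]
      exact Submodule.sum_mem _ fun i _ => Submodule.smul_mem _ _ (Submodule.subset_span ⟨i, rfl⟩)
    simp only [LinearMap.comp_apply, hr', hgι]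
    refine ⟨hmem _, hmem _, ?_⟩
    simp only [Matrix.toLin'_apply, Matrix.mulVec_mulVec, map_eq φ hGBA]
  · intro h0
    simp only [LinearMap.comp_apply, hr'] at h0
    have h1 := congrArg r h0
    rw [hr', map_zero] at h1
    have h3 : A'.map φ * A.map φ = 1 := by
      rw [← Matrix.map_mul, mul_eq_one_comm.1 hA, Matrix.map_one _ (map_zero φ) (map_one φ)]
    have h2 := congrArg (Matrix.toLin' (A'.map φ)) h1
    rw [Matrix.toLin'_apply, Matrix.toLin'_apply, Matrix.mulVec_mulVec, h3, Matrix.one_mulVec,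
      map_zero] at h2
    rw [h2, map_zero]
  · intro h0
    simp only [LinearMap.comp_apply, hr'] at h0
    have h1 := congrArg r h0
    rw [hr', map_zero] at h1
    have h3 : B'.map φ * B.map φ = 1 := by
      rw [← Matrix.map_mul, mul_eq_one_comm.1 hB, Matrix.map_one _ (map_zero φ) (map_one φ)]
    have h2 := congrArg (Matrix.toLin' (B'.map φ)) h1
    rw [Matrix.toLin'_apply, Matrix.toLin'_apply, Matrix.mulVec_mulVec, h3, Matrix.one_mulVec,
      map_zero] at h2
    rw [h2, map_zero]

theorem isComm_of_wit1 {p m : ℕ} (φ : ZMod p →+* F) {g : V →ₗ[F] V} (z : Module.Basis (Fin m) F V)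
    (G : Matrix (Fin m) (Fin m) (ZMod p)) (hG : LinearMap.toMatrix z z g = G.map φ) (hw : Wit1 G) :
    IsComm g := by
  obtain ⟨A, B, hA, hB, hGBA⟩ := hw
  refine ⟨Matrix.toLin z z (A.map φ), Matrix.toLin z z (B.map φ), ?_, ?_, ?_⟩
  · rw [LinearMap.det_toLin, ← RingHom.mapMatrix_apply, ← RingHom.map_det, hA, map_one]
  · rw [LinearMap.det_toLin, ← RingHom.mapMatrix_apply, ← RingHom.map_det, hB, map_one]
  · have hg : g = Matrix.toLin z z (G.map φ) := by rw [← hG, Matrix.toLin_toMatrix]
    simp only [Module.End.mul_eq_comp, hg, ← Matrix.toLin_mul]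
    rw [map_eq φ hGBA]

theorem Block.exists_coeffs {g : V →ₗ[F] V} (b : Block g) :
    ∃ cs : Fin b.d → F, cs ⟨0, b.hd⟩ = b.c ∧ (g ^ b.d) b.w = ∑ i, cs i • (g ^ (i : ℕ)) b.w := by
  classical
  have h : (g ^ b.d) b.w - b.c • b.w ∈ Submodule.span F
      (Set.range fun i : Fin b.d => if (i : ℕ) = 0 then 0 else (g ^ (i : ℕ)) b.w) := by
    refine Submodule.span_mono ?_ b.htop
    rintro _ ⟨i, ⟨hi1, hi2⟩, rfl⟩
    exact ⟨⟨i, hi2⟩, if_neg (show ¬ i = 0 by omega)⟩
  obtain ⟨e, he⟩ := (Submodule.mem_span_range_iff_exists_fun F).1 h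
  refine ⟨fun i => if (i : ℕ) = 0 then b.c else e i, rfl, ?_⟩
  rw [← sub_add_cancel ((g ^ b.d) b.w) (b.c • b.w), ← he]
  rw [show b.c • b.w = ∑ i : Fin b.d, (if (i : ℕ) = 0 then b.c • b.w else 0) by
    rw [Finset.sum_eq_single ⟨0, b.hd⟩ (fun i _ hi => if_neg (fun hh => hi (Fin.ext hh))) (by simp)]
    simp, ← Finset.sum_add_distrib]
  refine Finset.sum_congr rfl fun i _ => ?_
  by_cases h0 : (i : ℕ) = 0
  · simp [h0]
  · simp [h0]

theorem apply_comp {g : V →ₗ[F] V} {m : ℕ} (w : V) (cs : Fin m → F)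
    (h : (g ^ m) w = ∑ i, cs i • (g ^ (i : ℕ)) w) (j : Fin m) :
    g ((g ^ (j : ℕ)) w) = ∑ i, compM cs i j • (g ^ (i : ℕ)) w := by
  rw [apply_pow]
  by_cases hj : (j : ℕ) + 1 < m
  · rw [Finset.sum_eq_single ⟨(j : ℕ) + 1, hj⟩]
    · simp [compM, hj]
    · intro i _ hi
      have : ¬ (i : ℕ) = (j : ℕ) + 1 := fun hh => hi (Fin.ext hh)
      simp [compM, hj, this]
    · simp
  · rw [show (j : ℕ) + 1 = m by omega, h]
    exact Finset.sum_congr rfl fun i _ => by simp [compM, hj]

theorem compM_map {p m : ℕ} (φ : ZMod p →+* F) (cs : Fin m → ZMod p) :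
    (compM cs).map φ = compM fun i => φ (cs i) := by
  ext i j
  simp only [compM, Matrix.map_apply, Matrix.of_apply]
  split_ifs <;> simp

theorem range_eq_image_Iio {x : ℕ → V} (m : ℕ) :
    (Set.range fun i : Fin m => x i) = x '' Set.Iio m := by
  ext y
  constructor
  · rintro ⟨i, rfl⟩; exact ⟨i, i.2, rfl⟩
  · rintro ⟨i, hi, rfl⟩; exact ⟨⟨i, hi⟩, rfl⟩

theorem Block.span_eq {g : V →ₗ[F] V} (b : Block g) :
    b.span = Submodule.span F (Set.range fun i : Fin b.d => (g ^ (i : ℕ)) b.w) := by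
  rw [Block.span, range_eq_image_Iio (x := fun i => (g ^ i) b.w)]

theorem finrank_block_le {g : V →ₗ[F] V} [FiniteDimensional F V] (b : Block g) :
    Module.finrank F b.span ≤ b.d := by
  classical
  rw [b.span_eq]
  exact (finrank_range_le_card _).trans (by rw [Fintype.card_fin])

theorem finrank_spanL_le {g : V →ₗ[F] V} [FiniteDimensional F V] (L : List (Block g)) :
    Module.finrank F (spanL L : Submodule F V) ≤ dimL L := by
  induction L with
  | nil =>
    show Module.finrank F (⊥ : Submodule F V) ≤ _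
    rw [finrank_bot]
    exact Nat.zero_le _
  | cons b L ih =>
    have := Submodule.finrank_add_le_finrank_add_finrank b.span (spanL L)
    have := finrank_block_le b
    have hd : dimL (b :: L) = b.d + dimL L := by simp [dimL]
    show Module.finrank F (b.span ⊔ spanL L : Submodule F V) ≤ _
    omega

theorem split_exact {g : V →ₗ[F] V} [FiniteDimensional F V] {b : Block g} {L : List (Block g)}
    (h : Module.finrank F (spanL (b :: L) : Submodule F V) = dimL (b :: L)) :
    LinearIndependent F (fun i : Fin b.d => (g ^ (i : ℕ)) b.w) ∧ Disjoint b.span (spanL L) ∧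
      Module.finrank F (spanL L : Submodule F V) = dimL L := by
  have h1 := Submodule.finrank_sup_add_finrank_inf_eq b.span (spanL L)
  have h2 := finrank_block_le b
  have h3 := finrank_spanL_le L
  have hd : dimL (b :: L) = b.d + dimL L := by simp [dimL]
  change Module.finrank F (b.span ⊔ spanL L : Submodule F V) = dimL (b :: L) at h
  refine ⟨?_, ?_, by omega⟩
  · rw [linearIndependent_iff_card_eq_finrank_span, Fintype.card_fin, Set.finrank, ← b.span_eq]
    omega
  · rw [disjoint_iff, ← Submodule.finrank_eq_zero]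
    omega

theorem spanL_append {g : V →ₗ[F] V} (L L' : List (Block g)) : spanL (L ++ L') = spanL L ⊔ spanL L' := by
  induction L with
  | nil => simp [spanL]
  | cons a L ih => rw [List.cons_append, spanL, spanL, ih, sup_assoc]

theorem dimL_append {g : V →ₗ[F] V} (L L' : List (Block g)) : dimL (L ++ L') = dimL L + dimL L' := by
  simp [dimL]

section Two

variable [Fintype F] (h2 : Fintype.card F = 2)
include h2

theorem exists_hom_two : ∃ φ : ZMod 2 →+* F, Function.Surjective φ := by
  haveI : Fact (Nat.Prime 2) := ⟨Nat.prime_two⟩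
  haveI := charP_of_card_eq_prime h2
  exact ⟨ZMod.castHom dvd_rfl F, (ZMod.castHom_bijective F h2).2⟩

theorem c_eq_one {g : V →ₗ[F] V} (b : Block g) : b.c = 1 := by
  obtain ⟨φ, hφ⟩ := exists_hom_two h2
  obtain ⟨a, ha⟩ := hφ b.c
  have : ∀ a : ZMod 2, a = 0 ∨ a = 1 := by decide
  rcases this a with rfl | rfl
  · exact absurd (by rw [← ha, map_zero]) b.hc
  · rw [← ha, map_one]

theorem commOn_one {g : V →ₗ[F] V} {b : Block g} (hb : b.d = 1) : CommOn g b.span := by
  obtain ⟨hg, hs⟩ := block_one b hb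
  rw [c_eq_one h2 b, one_smul] at hg
  refine ⟨1, 1, fun x hx => ⟨hx, hx, ?_⟩, fun x _ h => h, fun x _ h => h⟩
  rw [hs] at hx
  obtain ⟨c, rfl⟩ := Submodule.mem_span_singleton.1 hx
  simp [hg]

theorem commOn_three {g : V →ₗ[F] V} {b : Block g} (hb : b.d = 3)
    (hli : LinearIndependent F (fun i : Fin b.d => (g ^ (i : ℕ)) b.w)) : CommOn g b.span := by
  obtain ⟨cs, hc0, hcs⟩ := b.exists_coeffs
  rw [b.span_eq]
  rw [c_eq_one h2 b] at hc0
  obtain ⟨d, w, c, hd, hc, htop⟩ := b
  simp only at hb hli cs hc0 hcs ⊢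
  subst hb
  obtain ⟨φ, hφ⟩ := exists_hom_two h2
  obtain ⟨x, hx⟩ := hφ (cs 1)
  obtain ⟨y, hy⟩ := hφ (cs 2)
  refine commOn_of_wit φ _ hli (compM ![1, x, y]) (fun j => ?_) (wit_two_three x y)
  rw [apply_comp w cs hcs j]
  refine Finset.sum_congr rfl fun i _ => ?_
  rw [← Matrix.map_apply (f := φ), compM_map]
  congr 3
  funext k
  fin_cases k <;> simp [hx, hy]
  exact hc0

theorem commOn_pair {g : V →ₗ[F] V} [FiniteDimensional F V] {a b : Block g} (ha : a.d = 2) (hb : b.d = 2)
    (hla : LinearIndependent F (fun i : Fin a.d => (g ^ (i : ℕ)) a.w))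
    (hlb : LinearIndependent F (fun i : Fin b.d => (g ^ (i : ℕ)) b.w))
    (hdis : Disjoint a.span b.span) : CommOn g (a.span ⊔ b.span) := by
  obtain ⟨as, ha0, has⟩ := a.exists_coeffs
  obtain ⟨bs, hb0, hbs⟩ := b.exists_coeffs
  rw [c_eq_one h2 a] at ha0
  rw [c_eq_one h2 b] at hb0
  rw [a.span_eq, b.span_eq] at hdis ⊢
  obtain ⟨da, wa, ca, hda, hca, htopa⟩ := a
  obtain ⟨db, wb, cb, hdb, hcb, htopb⟩ := b
  simp only at ha hb hla hlb as bs ha0 hb0 has hbs hdis ⊢
  subst ha hb
  obtain ⟨φ, hφ⟩ := exists_hom_two h2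
  obtain ⟨x, hx⟩ := hφ (as 1)
  obtain ⟨y, hy⟩ := hφ (bs 1)
  have hzs : Set.range ![wa, g wa, wb, g wb] =
      (Set.range fun i : Fin 2 => (g ^ (i : ℕ)) wa) ∪ Set.range fun i : Fin 2 => (g ^ (i : ℕ)) wb := by
    ext v
    simp only [Set.mem_range, Set.mem_union, Fin.exists_fin_succ, Fin.exists_fin_zero_pi]
    simp [or_assoc]
  have hz : LinearIndependent F ![wa, g wa, wb, g wb] := by
    rw [linearIndependent_iff_card_eq_finrank_span, Set.finrank, hzs, Submodule.span_union]
    have e := Submodule.finrank_sup_add_finrank_inf_eq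
      (Submodule.span F (Set.range fun i : Fin 2 => (g ^ (i : ℕ)) wa))
      (Submodule.span F (Set.range fun i : Fin 2 => (g ^ (i : ℕ)) wb))
    rw [disjoint_iff] at hdis
    rw [hdis, finrank_bot, add_zero, finrank_span_eq_card hla, finrank_span_eq_card hlb] at e
    rw [e]
    simp
  rw [← Submodule.span_union, ← hzs]
  refine commOn_of_wit φ _ hz (pairM x y) (fun j => ?_) (wit_two_pair x y)
  simp only [Fin.sum_univ_two, Fin.val_zero, Fin.val_one, pow_zero, pow_one, Module.End.one_apply] at has hbs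
  rw [pow_succ', pow_one, Module.End.mul_apply] at has hbs
  replace ha0 : as 0 = 1 := ha0
  replace hb0 : bs 0 = 1 := hb0
  rw [ha0, one_smul] at has
  rw [hb0, one_smul] at hbs
  fin_cases j <;> simp [pairM, Fin.sum_univ_four, hx, hy, has, hbs]

/-- Over the field with two elements, blocks of sizes `1`, `3` and pairs of sizes `2`. -/
theorem commOn_small {g : V →ₗ[F] V} [FiniteDimensional F V] :
    ∀ (m : ℕ) (A B : List (Block g)), A.length = 2 * m → (∀ b ∈ A, b.d = 2) →
      (∀ b ∈ B, b.d = 1 ∨ b.d = 3) →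
      Module.finrank F (spanL (A ++ B) : Submodule F V) = dimL (A ++ B) → CommOn g (spanL (A ++ B)) := by
  intro m
  induction m with
  | zero =>
    intro A B hA _ hB
    rw [List.length_eq_zero_iff.1 hA, List.nil_append]
    induction B with
    | nil => exact fun _ => commOn_bot g
    | cons b B ih =>
      intro h
      obtain ⟨hli, hdis, h'⟩ := split_exact h
      refine commOn_sup hdis ?_ (ih (fun c hc => hB c (by simp [hc])) h')
      rcases hB b (by simp) with hb | hb
      · exact commOn_one h2 hb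
      · exact commOn_three h2 hb hli
  | succ m ih =>
    intro A B hA hA2 hB h
    match A, hA, hA2, h with
    | [], hA, _, _ => simp at hA
    | [_], hA, _, _ => simp only [List.length_singleton] at hA; omega
    | a :: b :: A', hA, hA2, h =>
      obtain ⟨hla, hda, h'⟩ := split_exact h
      obtain ⟨hlb, hdb, h''⟩ := split_exact h'
      have hrest := ih A' B (by simp only [List.length_cons] at hA; omega)
        (fun c hc => hA2 c (by simp [hc])) hB h''
      have hab : Disjoint a.span b.span := hda.mono_right le_sup_left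
      have hpair := commOn_pair h2 (hA2 a (by simp)) (hA2 b (by simp)) hla hlb hab
      have hd : Disjoint (a.span ⊔ b.span) (spanL (A' ++ B)) :=
        hdb.disjoint_sup_left_of_disjoint_sup_right hda
      simp only [List.cons_append, spanL]
      rw [← sup_assoc]
      exact commOn_sup hd hpair hrest

end Two

/-- A single block of size five over the field with two elements. -/
theorem isComm_five [Fintype F] (h2 : Fintype.card F = 2) [FiniteDimensional F V] {g : V →ₗ[F] V}
    {b : Block g} (hb : b.d = 5) (hli : LinearIndependent F (fun i : Fin b.d => (g ^ (i : ℕ)) b.w))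
    (htop : b.span = ⊤) : IsComm g := by
  obtain ⟨cs, hc0, hcs⟩ := b.exists_coeffs
  rw [b.span_eq] at htop
  rw [c_eq_one h2 b] at hc0
  obtain ⟨d, w, c, hd, hc, ht⟩ := b
  simp only at hb hli cs hc0 hcs htop
  subst hb
  obtain ⟨φ, hφ⟩ := exists_hom_two h2
  obtain ⟨x, hx⟩ := hφ (cs 1)
  obtain ⟨y, hy⟩ := hφ (cs 2)
  obtain ⟨z, hz⟩ := hφ (cs 3)
  obtain ⟨t, ht'⟩ := hφ (cs 4)
  have hF : ∀ a : F, a ≠ 0 → a = 1 := by
    intro a ha
    obtain ⟨e, rfl⟩ := hφ a
    have : ∀ e : ZMod 2, e = 0 ∨ e = 1 := by decide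
    rcases this e with rfl | rfl
    · exact absurd (map_zero φ) ha
    · exact map_one φ
  refine isComm_of_commOn_top hF ?_
  rw [← htop]
  refine commOn_of_wit φ _ hli (compM ![1, x, y, z, t]) (fun j => ?_) (wit_two_five x y z t)
  rw [apply_comp w cs hcs j]
  refine Finset.sum_congr rfl fun i _ => ?_
  rw [← Matrix.map_apply (f := φ), compM_map]
  congr 3
  funext k
  fin_cases k <;> simp [hx, hy, hz, ht']
  exact hc0

/-- A single block of size three over the field with three elements. -/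
theorem isComm_three [Fintype F] (h3 : Fintype.card F = 3) [FiniteDimensional F V] {g : V →ₗ[F] V}
    (hdet : LinearMap.det g = 1) (hdim : Module.finrank F V = 3)
    {b : Block g} (hb : b.d = 3) (hli : LinearIndependent F (fun i : Fin b.d => (g ^ (i : ℕ)) b.w)) :
    IsComm g := by
  classical
  obtain ⟨cs, hc0, hcs⟩ := b.exists_coeffs
  obtain ⟨d, w, c, hd, hc, ht⟩ := b
  simp only at hb hli cs hc0 hcs
  subst hb
  haveI : Fact (Nat.Prime 3) := ⟨Nat.prime_three⟩
  haveI := charP_of_card_eq_prime h3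
  obtain ⟨φ, hφdef⟩ : ∃ φ : ZMod 3 →+* F, φ = ZMod.castHom dvd_rfl F := ⟨_, rfl⟩
  have hφ : Function.Surjective φ := hφdef ▸ (ZMod.castHom_bijective F h3).2
  obtain ⟨x, hx⟩ := hφ (cs 1)
  obtain ⟨y, hy⟩ := hφ (cs 2)
  let z := basisOfLinearIndependentOfCardEqFinrank hli (by rw [Fintype.card_fin, hdim])
  have hz : ∀ i, z i = (g ^ (i : ℕ)) w := fun i => by simp [z]
  have hmat : LinearMap.toMatrix z z g = compM cs := by
    ext i j
    rw [LinearMap.toMatrix_apply, hz j, apply_comp w cs hcs j]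
    simp only [← hz]
    rw [map_sum]
    simp [Finsupp.single_apply]
  have hc1 : cs 0 = 1 := by
    rw [← hdet, ← LinearMap.det_toMatrix z, hmat, Matrix.det_fin_three]
    simp [compM]
  have hG : LinearMap.toMatrix z z g = (compM ![1, x, y]).map φ := by
    rw [hmat, compM_map]
    congr 1
    funext k
    fin_cases k <;> simp [hx, hy, hc1]
  exact isComm_of_wit1 φ z _ hG (wit_three_three x y)

end Cfsg.Agent.SLComm23
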