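import Cfsg.Agent.Lib.SLComm23.Polys
import Cfsg.Agent.Lib.SLComm23.Small
import Cfsg.Agent.Lib.SLComm23.Scalar

/-!
Every element of `SL(V)` is a commutator.
-/

set_option autoImplicit false

namespace Cfsg.Agent.SLComm23

variable {F V : Type*} [Field F] [AddCommGroup V] [Module F V]

theorem extend_odds {g : V →ₗ[F] V} : ∀ (O : List (Block g)) (a : Good g),
    (∀ b ∈ O, b.d % 2 = 1) →
    ∃ a' : Good g, a'.k = a.k ∧ a'.n = a.n + dimL O ∧ a.span ⊔ spanL O ≤ a'.span
  | [], a, _ => ⟨a, rfl, by simp [dimL], by simp [spanL]⟩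
  | b :: O, a, h => by
    have hb : b.d = 2 * (b.d / 2) + 1 := by have := h b (by simp); omega
    obtain ⟨e, he⟩ : ∃ e, e = Seg.ofOdd b (b.d / 2) hb := ⟨_, rfl⟩
    have hek : e.k = 0 := by rw [he]; rfl
    obtain ⟨a', h1, h2, h3⟩ := extend_odds O (a.append e (.inr hek)) fun c hc => h c (by simp [hc])
    refine ⟨a', ?_, ?_, ?_⟩
    · rw [h1]; show a.k + e.k = a.k; rw [hek, Nat.add_zero]
    · rw [h2]; show a.n + e.s + dimL O = _; rw [he]; simp [Seg.ofOdd, dimL]; omega
    · refine le_trans ?_ h3
      refine sup_le (le_sup_of_le_left (le_trans le_sup_left (a.append_span e _))) ?_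
      refine sup_le (le_sup_of_le_left (le_trans ?_ (a.append_span e _))) le_sup_right
      exact le_sup_of_le_right (by rw [he]; exact one_span b)

theorem extend_pairs {g : V →ₗ[F] V} : ∀ (m : ℕ) (E : List (Block g)) (a : Good g), E.length = 2 * m →
    (∀ b ∈ E, b.d % 2 = 0) →
    ∃ a' : Good g, a'.k = a.k ∧ a'.n = a.n + dimL E ∧ a.span ⊔ spanL E ≤ a'.span
  | 0, E, a, hl, _ => by
    rw [List.length_eq_zero_iff.1 hl]
    exact ⟨a, rfl, by simp [dimL], by simp [spanL]⟩
  | m + 1, [], a, hl, _ => by simp at hl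
  | m + 1, [_], a, hl, _ => by simp only [List.length_singleton] at hl; omega
  | m + 1, x :: y :: E, a, hl, h => by
    have hx := h x (by simp)
    have hy := h y (by simp)
    have hx' := x.hd
    have hy' := y.hd
    obtain ⟨e, he⟩ : ∃ e, e = Seg.ofPair x y (x.d / 2) (y.d / 2) (by omega) (by omega) (by omega) (by omega) :=
      ⟨_, rfl⟩
    have hek : e.k = 0 := by rw [he]; rfl
    obtain ⟨a', h1, h2, h3⟩ := extend_pairs m E (a.append e (.inr hek))
      (by simp only [List.length_cons] at hl; omega) fun c hc => h c (by simp [hc])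
    refine ⟨a', ?_, ?_, ?_⟩
    · rw [h1]; show a.k + e.k = a.k; rw [hek, Nat.add_zero]
    · rw [h2]; show a.n + e.s + dimL E = _; rw [he]; simp [Seg.ofPair, dimL]; omega
    · refine le_trans ?_ h3
      refine sup_le (le_sup_of_le_left (le_trans le_sup_left (a.append_span e _))) ?_
      simp only [spanL]
      rw [← sup_assoc]
      refine sup_le (le_sup_of_le_left (le_trans ?_ (a.append_span e _))) le_sup_right
      exact le_sup_of_le_right (by rw [he]; exact two_span x y (by omega) (by omega))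

theorem extend_both {g : V →ₗ[F] V} (m : ℕ) (E O : List (Block g)) (a : Good g) (hl : E.length = 2 * m)
    (hE : ∀ b ∈ E, b.d % 2 = 0) (hO : ∀ b ∈ O, b.d % 2 = 1) :
    ∃ a' : Good g, a'.k = a.k ∧ a'.n = a.n + dimL E + dimL O ∧ a.span ⊔ spanL E ⊔ spanL O ≤ a'.span := by
  obtain ⟨a1, h1, h2, h3⟩ := extend_pairs m E a hl hE
  obtain ⟨a2, k1, k2, k3⟩ := extend_odds O a1 hO
  exact ⟨a2, k1.trans h1, by omega, le_trans (sup_le_sup_right h3 _) k3⟩

theorem eq_nil_of_dimL {g : V →ₗ[F] V} {L : List (Block g)} (h : dimL L = 0) : L = [] := by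
  rcases L with _ | ⟨b, L⟩
  · rfl
  · have := b.hd
    simp [dimL] at h
    omega

theorem li_of_span_top {g : V →ₗ[F] V} [FiniteDimensional F V] (b : Block g) (h : b.span = ⊤)
    (hd : Module.finrank F V = b.d) :
    LinearIndependent F (fun i : Fin b.d => (g ^ (i : ℕ)) b.w) :=
  linearIndependent_of_top_le_span_of_card_eq_finrank (by rw [← b.span_eq, h]) (by rw [Fintype.card_fin, hd])

variable [Fintype F] [FiniteDimensional F V]

theorem isComm_of_good {g : V →ₗ[F] V} (a : Good g) (hg : LinearMap.det g = 1)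
    (hdim : Module.finrank F V = a.n) (htop : ⊤ ≤ a.span)
    (h0 : a.k = 0 → a.l = 1 → 4 ≤ Fintype.card F) (h1 : a.k = 1 → a.l = 1 → 4 ≤ Fintype.card F)
    (h2 : 0 < a.k → Fintype.card F = 2 → 2 ≤ a.k ∧ 2 ≤ a.l ∧ ¬(a.k = 2 ∧ a.l = 2)) : IsComm g :=
  a.isComm hg hdim (top_le_iff.1 htop) (exists_polyData a.hl h0 h1 h2).some

theorem isComm_of_blocks {g : V →ₗ[F] V} (hg : LinearMap.det g = 1) {n : ℕ}
    (hn : Module.finrank F V = n) (hex : n = 2 → 4 ≤ Fintype.card F) (L : List (Block g))
    (hdim : dimL L = n) (htop : spanL L = ⊤) (hbig : ∃ b ∈ L, 2 ≤ b.d) : IsComm g := by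
  classical
  obtain ⟨E, hEdef⟩ : ∃ E, E = L.filter (fun b => decide (b.d % 2 = 0)) := ⟨_, rfl⟩
  obtain ⟨O, hOdef⟩ : ∃ O, O = L.filter (fun b => !decide (b.d % 2 = 0)) := ⟨_, rfl⟩
  have hperm : (E ++ O).Perm L := by rw [hEdef, hOdef]; exact List.filter_append_perm _ _
  have hE : ∀ b ∈ E, b.d % 2 = 0 := fun b hb => by
    rw [hEdef, List.mem_filter] at hb
    exact of_decide_eq_true hb.2
  have hO : ∀ b ∈ O, b.d % 2 = 1 := fun b hb => by
    have := (List.mem_filter.1 (hOdef ▸ hb)).2
    simp at this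
    omega
  have hsp : spanL E ⊔ spanL O = ⊤ := by rw [← spanL_append, spanL_perm hperm, htop]
  have hds : dimL E + dimL O = n := by rw [← dimL_append, dimL_perm hperm, hdim]
  have hbigEO : ∃ b ∈ E ++ O, 2 ≤ b.d := by
    obtain ⟨b, hb, hb2⟩ := hbig; exact ⟨b, hperm.mem_iff.2 hb, hb2⟩
  have hc2 : 2 ≤ Fintype.card F := Fintype.one_lt_card
  rcases Nat.even_or_odd' E.length with ⟨m, hm | hm⟩
  swap
  · -- odd number of even blocks
    match E, hm, hE, hsp, hds with
    | [], hm, _, _, _ => simp at hm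
    | e :: E', hm, hE, hsp, hds =>
      have he := hE e (by simp)
      have he' := e.hd
      obtain ⟨a0, ha0⟩ : ∃ a0, a0 = Good.ofEven e (e.d / 2) (by omega) (by omega) := ⟨_, rfl⟩
      obtain ⟨a, hak, han, hasp⟩ := extend_both m E' O a0 (by simp only [List.length_cons] at hm; omega)
        (fun b hb => hE b (by simp [hb])) hO
      have hk : a.k = 0 := by rw [hak, ha0]; rfl
      have ha0n : a0.n = e.d := by rw [ha0]; rfl
      have hne : dimL (e :: E') = e.d + dimL E' := by simp [dimL]
      have hl := a.hn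
      refine isComm_of_good a hg (by omega) ?_ (fun _ hl1 => hex (by omega)) (fun h => by omega)
        (fun h => by omega)
      rw [← hsp]
      refine le_trans ?_ hasp
      simp only [spanL]
      refine sup_le_sup_right (sup_le_sup_right ?_ _) _
      rw [ha0]
      exact first_span e
  obtain ⟨lo, hlo⟩ : ∃ lo : ℕ, lo = if Fintype.card F = 2 then 5 else 3 := ⟨_, rfl⟩
  have hlo3 : 3 ≤ lo := by rw [hlo]; split_ifs <;> omega
  have hlo2 : Fintype.card F = 2 → lo = 5 := fun h => by rw [hlo, if_pos h]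
  have hlo' : Fintype.card F ≠ 2 → lo = 3 := fun h => by rw [hlo, if_neg h]
  by_cases hb1 : ∃ b ∈ O, lo ≤ b.d
  · obtain ⟨b, hbO, hb⟩ := hb1
    have hbodd := hO b hbO
    have hp := List.perm_cons_erase hbO
    have hdO : dimL O = b.d + dimL (O.erase b) := by rw [dimL_perm hp]; simp [dimL]
    have hsO : spanL O = b.span ⊔ spanL (O.erase b) := by rw [spanL_perm hp]; rfl
    obtain ⟨a0, ha0⟩ : ∃ a0, a0 = Good.ofOdd b (b.d / 2) (by omega) (by omega) := ⟨_, rfl⟩
    obtain ⟨a, hak, han, hasp⟩ := extend_both m E (O.erase b) a0 hm hE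
      (fun c hc => hO c (List.mem_of_mem_erase hc))
    have hk : a.k = b.d / 2 := by rw [hak, ha0]; rfl
    have ha0n : a0.n = b.d := by rw [ha0]; rfl
    have hl := a.hn
    by_cases hspecial : a.k = a.l ∧ ((a.k = 1 ∧ Fintype.card F < 4) ∨ (a.k = 2 ∧ Fintype.card F = 2))
    · obtain ⟨hkl, hcase⟩ := hspecial
      have hbn : b.d = n := by omega
      have hE0 : E = [] := eq_nil_of_dimL (by omega)
      have hO0 : O.erase b = [] := eq_nil_of_dimL (by omega)
      have hbtop : b.span = ⊤ := by
        rw [← hsp, hsO, hE0, hO0]; simp [spanL]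
      have hli := li_of_span_top b hbtop (by omega)
      rcases hcase with ⟨h1, h4⟩ | ⟨h2k, h2F⟩
      · have hF3 : Fintype.card F = 3 := by
          by_contra hne
          have := hlo2 (by omega)
          omega
        exact isComm_three hF3 hg (by omega) (show b.d = 3 by omega) hli
      · exact isComm_five h2F (show b.d = 5 by omega) hli hbtop
    refine isComm_of_good a hg (by omega) ?_ (fun h => by omega) (fun h h' => ?_) (fun _ h2F => ?_)
    · rw [← hsp, hsO]
      refine le_trans ?_ hasp
      refine sup_le (le_sup_of_le_left le_sup_right) (sup_le ?_ le_sup_right)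
      refine le_sup_of_le_left (le_sup_of_le_left ?_)
      rw [ha0]
      exact first_span b
    · by_contra h4
      exact hspecial ⟨by omega, .inl ⟨h, by omega⟩⟩
    · have := hlo2 h2F
      exact ⟨by omega, by omega, fun hh => hspecial ⟨by omega, .inr ⟨hh.1, h2F⟩⟩⟩
  push_neg at hb1
  by_cases hb2 : ∃ e ∈ E, lo - 1 ≤ e.d
  · obtain ⟨e, heE, he⟩ := hb2
    have hp := List.perm_cons_erase heE
    have hlen := hp.length_eq
    rcases hEr : E.erase e with _ | ⟨e1, E'⟩
    · rw [hEr] at hlen; simp at hlen; omega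
    rw [hEr] at hp hlen
    have hdE : dimL E = e.d + (e1.d + dimL E') := by rw [dimL_perm hp]; simp [dimL]
    have hsE : spanL E = e.span ⊔ (e1.span ⊔ spanL E') := by rw [spanL_perm hp]; rfl
    have he1 := hE e1 (hp.mem_iff.2 (by simp))
    have hee := hE e heE
    have := e1.hd
    obtain ⟨a0, ha0⟩ : ∃ a0, a0 = Good.ofEven e1 (e1.d / 2) (by omega) (by omega) := ⟨_, rfl⟩
    obtain ⟨s, hs⟩ : ∃ s, s = Seg.ofEven e (e.d / 2) (by omega) (by omega) := ⟨_, rfl⟩
    have ha0k : a0.k = 0 := by rw [ha0]; rfl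
    obtain ⟨a, hak, han, hasp⟩ := extend_both (m - 1) E' O (a0.append s (.inl ha0k))
      (by simp only [List.length_cons] at hlen; omega)
      (fun c hc => hE c (hp.mem_iff.2 (by simp [hc]))) hO
    have hk : a.k = e.d / 2 := by
      rw [hak]; show a0.k + s.k = _; rw [ha0k, hs, Nat.zero_add]; rfl
    have hn0 : (a0.append s (.inl ha0k)).n = e1.d + e.d := by
      show a0.n + s.s = _; rw [ha0, hs]; rfl
    have hl := a.hn
    refine isComm_of_good a hg (by omega) ?_ (fun h => by omega) (fun h h' => by omega) (fun _ h2F => ?_)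
    · rw [← hsp, hsE]
      refine le_trans ?_ hasp
      refine sup_le (sup_le ?_ (sup_le ?_ (le_sup_of_le_left le_sup_right))) le_sup_right
      · refine le_sup_of_le_left (le_sup_of_le_left (le_trans ?_ (a0.append_span s _)))
        exact le_sup_of_le_right (by rw [hs]; exact one_span e)
      · refine le_sup_of_le_left (le_sup_of_le_left (le_trans ?_ (a0.append_span s _)))
        exact le_sup_of_le_left (by rw [ha0]; exact first_span e1)
    · have := hlo2 h2F
      exact ⟨by omega, by omega, by omega⟩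
  push_neg at hb2
  by_cases h2F : Fintype.card F = 2
  · have hl5 := hlo2 h2F
    obtain ⟨φ, hφ⟩ := exists_hom_two h2F
    have hF : ∀ a : F, a ≠ 0 → a = 1 := by
      intro a ha
      obtain ⟨z, rfl⟩ := hφ a
      have : ∀ z : ZMod 2, z = 0 ∨ z = 1 := by decide
      rcases this z with rfl | rfl
      · exact absurd (map_zero φ) ha
      · exact map_one φ
    refine isComm_of_commOn_top hF ?_
    have h := commOn_small h2F (g := g) m E O hm
      (fun b hb => by have := hE b hb; have := hb2 b hb; have := b.hd; omega)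
      (fun b hb => by have := hO b hb; have := hb1 b hb; omega)
      (by rw [spanL_append, hsp, finrank_top, hn, dimL_append, hds])
    rwa [spanL_append, hsp] at h
  · have hl3 := hlo' h2F
    obtain ⟨b, hb, hbd⟩ := hbigEO
    rcases List.mem_append.1 hb with h | h
    · have := hb2 b h; omega
    · have := hb1 b h; have := hO b h; omega

/-- Every determinant one endomorphism is a commutator, with the two known exceptions. -/
theorem isComm_of_det_one {g : V →ₗ[F] V} (hg : LinearMap.det g = 1) {n : ℕ}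
    (hn : Module.finrank F V = n) (hpos : 2 ≤ n) (hex : n = 2 → 4 ≤ Fintype.card F) : IsComm g := by
  classical
  by_cases hsc : ∃ c : F, g = c • 1
  · obtain ⟨c, rfl⟩ := hsc
    rw [LinearMap.det_smul, hn, map_one, mul_one] at hg
    exact isComm_scalar hn (by omega) c hg
  have hu : IsUnit (LinearMap.det g) := by rw [hg]; exact isUnit_one
  have hinj : Function.Injective g := (LinearEquiv.ofIsUnitDet (v := Module.finBasis F V)
    (v' := Module.finBasis F V) (f := g) (by rw [LinearMap.det_toMatrix]; exact hu)).injective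
  obtain ⟨L, hdim, htop⟩ := exists_blocks g hinj
  rw [hn] at hdim
  by_cases hbig : ∃ b ∈ L, 2 ≤ b.d
  · exact isComm_of_blocks hg hn hex L hdim htop hbig
  push_neg at hbig
  have hone : ∀ b ∈ L, b.d = 1 := fun b hb => by have := hbig b hb; have := b.hd; omega
  match L, hdim, htop, hone with
  | [], hdim, _, _ => simp [dimL] at hdim; omega
  | a :: L', hdim, htop, hone =>
    by_cases hd : ∃ b ∈ L', a.c ≠ b.c
    · obtain ⟨b, hb, hne⟩ := hd
      obtain ⟨M, hMd, hMs⟩ := merge_ones a b (hone a (by simp)) (hone b (by simp [hb])) hne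
      have hp := List.perm_cons_erase hb
      refine isComm_of_blocks hg hn hex (M :: L'.erase b) ?_ ?_ ⟨M, by simp, by omega⟩
      · have h1 : dimL L' = b.d + dimL (L'.erase b) := by rw [dimL_perm hp]; simp [dimL]
        have h2 : dimL (a :: L') = a.d + dimL L' := by simp [dimL]
        have h3 : dimL (M :: L'.erase b) = M.d + dimL (L'.erase b) := by simp [dimL]
        have := hone a (by simp); have := hone b (by simp [hb])
        omega
      · rw [eq_top_iff, ← htop]
        show a.span ⊔ spanL L' ≤ M.span ⊔ spanL (L'.erase b)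
        rw [spanL_perm hp]
        show a.span ⊔ (b.span ⊔ spanL (L'.erase b)) ≤ _
        rw [← sup_assoc]
        exact sup_le_sup_right hMs _
    · push_neg at hd
      refine absurd ⟨a.c, ?_⟩ hsc
      rw [← LinearMap.eqLocus_eq_top, eq_top_iff, ← htop]
      refine spanL_le fun b hb => ?_
      obtain ⟨hgb, hsb⟩ := block_one b (hone b hb)
      rw [hsb, Submodule.span_le, Set.singleton_subset_iff]
      have hc : b.c = a.c := by
        rcases List.mem_cons.1 hb with rfl | h
        · rfl
        · exact (hd b h).symm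
      show g b.w = (a.c • (1 : V →ₗ[F] V)) b.w
      rw [hgb, hc, LinearMap.smul_apply, Module.End.one_apply]

end Cfsg.Agent.SLComm23
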