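import Cfsg.Agent.Lib.SLComm23.Chain

/-!
Existence of the polynomial data.
-/

set_option autoImplicit false

namespace Cfsg.Agent.SLComm23

open Polynomial

variable {F : Type*} [Field F]

/-- The trinomial `X ^ l + a X + c`. -/
noncomputable def tri (l : ℕ) (a c : F) : F[X] := X ^ l + (C a * X + C c)

theorem tri_props {l : ℕ} (hl : 2 ≤ l) (a c : F) :
    (tri l a c).Monic ∧ (tri l a c).natDegree = l ∧ (tri l a c).coeff 0 = c ∧
      ∀ x, (tri l a c).eval x = x ^ l + a * x + c := by
  have hdeg : (C a * X + C c).degree < (l : WithBot ℕ) :=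
    lt_of_le_of_lt degree_linear_le (by exact_mod_cast hl)
  refine ⟨monic_X_pow_add hdeg, ?_, ?_, fun x => ?_⟩
  · rw [tri, natDegree_add_eq_left_of_degree_lt (by rwa [degree_X_pow]), natDegree_X_pow]
  · simp [tri, show (0 : ℕ) ≠ l by omega, coeff_X_pow]
  · simp [tri, add_assoc]

theorem neg_one_pow_sq (n : ℕ) : (-1 : F) ^ n * (-1) ^ n = 1 := by
  rw [← mul_pow, neg_one_mul, neg_neg, one_pow]

/-- Exchange the two chains. -/
noncomputable def PolyData.swap {l k : ℕ} (D : PolyData F l k) : PolyData F k l where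
  α := D.α
  ht := D.hu
  hu := D.ht
  tmonic := D.umonic
  tdeg := D.udeg
  umonic := D.tmonic
  udeg := D.tdeg
  teval := D.ueval
  ueval := D.teval
  cop := D.cop.symm
  sign := by rw [mul_right_comm, D.sign, add_comm k l]

theorem exists_polyData_zero {l : ℕ} (hl : 2 ≤ l) : Nonempty (PolyData F l 0) := by
  obtain ⟨h1, h2, h3, h4⟩ := tri_props (F := F) hl (-(-1) ^ l) ((-1) ^ l)
  refine ⟨⟨1, _, 1, h1, h2, monic_one, natDegree_one, ?_, by simp, isCoprime_one_right, ?_⟩⟩
  · rw [h4]; simp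
  · rw [h3, coeff_one_zero]; ring

theorem exists_polyData_one {t : F} (ht : t ≠ 0) (ht' : t * t ≠ 1) : Nonempty (PolyData F 1 0) := by
  refine ⟨⟨t, X - C t⁻¹, 1, monic_X_sub_C _, natDegree_X_sub_C _, monic_one, natDegree_one, ?_, by simp,
    isCoprime_one_right, ?_⟩⟩
  · rw [eval_sub, eval_X, eval_C, sub_ne_zero]
    intro h
    exact ht' (by nth_rw 2 [h]; rw [mul_inv_cancel₀ ht])
  · simp [ht]

theorem exists_polyData_one_one {t : F} (ht : t ≠ 0) (ht' : t * t ≠ 1) :
    Nonempty (PolyData F 1 1) := by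
  have h1 : t ≠ 1 := fun h => ht' (by rw [h, one_mul])
  have h2 : t⁻¹ ≠ 1 := fun h => h1 (by rw [← inv_inv t, h, inv_one])
  refine ⟨⟨1, X - C t, X - C t⁻¹, monic_X_sub_C _, natDegree_X_sub_C _, monic_X_sub_C _,
    natDegree_X_sub_C _, ?_, ?_, ?_, ?_⟩⟩
  · rw [eval_sub, eval_X, eval_C, sub_ne_zero]; exact h1.symm
  · rw [eval_sub, eval_X, eval_C, sub_ne_zero]; exact h2.symm
  · refine coprime_X_sub_C ?_
    rw [eval_sub, eval_X, eval_C, sub_ne_zero]
    intro h
    exact ht' (by nth_rw 2 [h]; rw [mul_inv_cancel₀ ht])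
  · simp [ht]; norm_num

theorem exists_polyData_ge_three [Fintype F] (hF : 3 ≤ Fintype.card F) {l k : ℕ} (hl : 2 ≤ l) (hk : 1 ≤ k) :
    Nonempty (PolyData F l k) := by
  classical
  obtain ⟨t, ht⟩ : ∃ t : F, t ∉ ({0, 1} : Finset F) := by
    by_contra h
    push_neg at h
    have := Finset.card_le_card (show (Finset.univ : Finset F) ⊆ {0, 1} from fun x _ => h x)
    have h2 := Finset.card_le_two (a := (0 : F)) (b := 1)
    rw [Finset.card_univ] at this
    omega
  simp only [Finset.mem_insert, Finset.mem_singleton, not_or] at ht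
  obtain ⟨c, hc⟩ : ∃ c, c = (-1 : F) ^ l * (t⁻¹) ^ k := ⟨_, rfl⟩
  obtain ⟨a, ha⟩ : ∃ a : F, a ∉ ({-1 - c, -(t ^ l + c) / t} : Finset F) := by
    by_contra h
    push_neg at h
    have := Finset.card_le_card (show (Finset.univ : Finset F) ⊆ {-1 - c, -(t ^ l + c) / t} from fun x _ => h x)
    have h2 := Finset.card_le_two (a := -1 - c) (b := -(t ^ l + c) / t)
    rw [Finset.card_univ] at this
    omega
  simp only [Finset.mem_insert, Finset.mem_singleton, not_or] at ha
  obtain ⟨h1, h2, h3, h4⟩ := tri_props (F := F) hl a c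
  refine ⟨⟨1, _, (X - C t) ^ k, h1, h2, (monic_X_sub_C _).pow k, by simp, ?_, ?_, ?_, ?_⟩⟩
  · rw [h4]
    intro h
    exact ha.1 (by linear_combination h + (one_pow (M := F) l).symm - (one_pow (M := F) l).symm)
  · rw [eval_pow, eval_sub, eval_X, eval_C]
    exact pow_ne_zero _ (sub_ne_zero.2 (Ne.symm ht.2))
  · refine (coprime_X_sub_C ?_).pow_left.symm
    rw [h4]
    intro h
    exact ha.2 (by rw [eq_div_iff ht.1]; linear_combination h)
  · rw [h3, coeff_zero_eq_eval_zero, eval_pow, eval_sub, eval_X, eval_C, zero_sub, neg_pow, hc]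
    rw [show (-1 : F) * ((-1) ^ l * t⁻¹ ^ k) * ((-1) ^ k * t ^ k) =
      (-1) * (-1) ^ l * (-1) ^ k * (t⁻¹ ^ k * t ^ k) by ring, ← mul_pow, inv_mul_cancel₀ ht.1, one_pow]
    ring

theorem exists_polyData_two (hF : ∀ a : F, a = 0 ∨ a = 1) {l k : ℕ} (hk : 2 ≤ k) (hkl : k ≤ l)
    (h22 : ¬(k = 2 ∧ l = 2)) : Nonempty (PolyData F l k) := by
  have h11 : (1 + 1 : F) = 0 := by
    rcases hF (1 + 1) with h | h
    · exact h
    · exact absurd (by simpa using h) (one_ne_zero (α := F))
  have hneg : (-1 : F) = 1 := neg_eq_of_add_eq_zero_right h11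
  obtain ⟨a1, a2, a3, a4⟩ := tri_props (F := F) hk 1 1
  have ha1 : (tri k (1 : F) 1).eval 1 = 1 := by
    rw [a4]; linear_combination h11 + one_pow (M := F) k
  have ha0 : (tri k (1 : F) 1).eval 0 = 1 := by rw [← coeff_zero_eq_eval_zero, a3]
  suffices h : ∃ p : F[X], p.Monic ∧ p.natDegree = l ∧ p.eval 1 = 1 ∧ p.coeff 0 = 1 ∧
      IsCoprime (tri k (1 : F) 1) p by
    obtain ⟨p, p1, p2, p3, p4, p5⟩ := h
    refine ⟨⟨1, p, tri k 1 1, p1, p2, a1, a2, ?_, ?_, p5.symm, ?_⟩⟩
    · rw [p3]; exact one_ne_zero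
    · rw [ha1]; exact one_ne_zero
    · rw [p4, a3, hneg, one_pow, one_mul, one_mul]
  rcases Nat.lt_or_ge (k + 1) l with h | h
  · have hs : (X ^ (l - k) + X : F[X]).Monic := monic_X_pow_add (by
      rw [degree_X]; exact_mod_cast (show 1 < l - k by omega))
    have hsd : (X ^ (l - k) + X : F[X]).natDegree = l - k := by
      rw [natDegree_add_eq_left_of_degree_lt, natDegree_X_pow]
      rw [degree_X, degree_X_pow]; exact_mod_cast (show 1 < l - k by omega)
    have hp : (tri k (1 : F) 1 * (X ^ (l - k) + X) + 1).natDegree = l := by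
      rw [← C_1, natDegree_add_C, a1.natDegree_mul hs, a2, hsd]; omega
    refine ⟨tri k 1 1 * (X ^ (l - k) + X) + 1, ?_, hp, ?_, ?_, ?_⟩
    · refine (a1.mul hs).add_of_left ?_
      rw [degree_one, degree_eq_natDegree (a1.mul hs).ne_zero, a1.natDegree_mul hs, a2, hsd]
      exact_mod_cast (show 0 < k + (l - k) by omega)
    · simp [ha1, h11]
    · rw [coeff_zero_eq_eval_zero]; simp [show l - k ≠ 0 by omega]
    · rw [add_comm, mul_comm]
      exact isCoprime_one_right.add_mul_right_right _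
  rcases Nat.lt_or_ge k l with h' | h'
  · have hl : l = k + 1 := by omega
    have hx : (X + C 1 : F[X]).degree < (X * tri k (1 : F) 1).degree := by
      rw [degree_X_add_C, degree_eq_natDegree (monic_X.mul a1).ne_zero, monic_X.natDegree_mul a1, a2,
        natDegree_X]
      exact_mod_cast (show 1 < 1 + k by omega)
    refine ⟨X * tri k 1 1 + (X + C 1), (monic_X.mul a1).add_of_left hx, ?_, ?_, ?_, ?_⟩
    · rw [natDegree_add_eq_left_of_degree_lt hx, monic_X.natDegree_mul a1, a2, natDegree_X]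
      omega
    · simp [ha1]; linear_combination h11
    · rw [coeff_zero_eq_eval_zero]; simp
    · rw [add_comm]
      refine IsCoprime.add_mul_right_right ?_ _
      rw [show (X + C 1 : F[X]) = X - C 1 by rw [sub_eq_add_neg, ← map_neg, hneg]]
      exact (coprime_X_sub_C (by rw [ha1]; exact one_ne_zero)).symm
  · have hl : l = k := by omega
    have hx : (X ^ 2 + X : F[X]).degree < (tri k (1 : F) 1).degree := by
      rw [degree_eq_natDegree a1.ne_zero, a2]
      refine lt_of_le_of_lt (degree_add_le _ _) ?_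
      rw [degree_X_pow, degree_X, max_lt_iff]
      exact ⟨by exact_mod_cast (show 2 < k by omega), by exact_mod_cast (show 1 < k by omega)⟩
    refine ⟨tri k 1 1 + (X ^ 2 + X), a1.add_of_left hx, ?_, ?_, ?_, ?_⟩
    · rw [natDegree_add_eq_left_of_degree_lt hx, a2]; omega
    · simp [ha1, h11]
    · rw [coeff_zero_eq_eval_zero]; simp [ha0]
    · have h5 : IsCoprime (tri k (1 : F) 1) (X * (X + C 1)) := by
        refine IsCoprime.mul_right ?_ ?_
        · have := (coprime_X_sub_C (α := (0 : F)) (h := tri k (1 : F) 1) (by rw [ha0]; exact one_ne_zero)).symm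
          simpa using this
        · rw [show (X + C 1 : F[X]) = X - C 1 by rw [sub_eq_add_neg, ← map_neg, hneg]]
          exact (coprime_X_sub_C (by rw [ha1]; exact one_ne_zero)).symm
      have h6 := h5.add_mul_left_right 1
      rw [mul_one] at h6
      rwa [show tri k (1 : F) 1 + (X ^ 2 + X) = X * (X + C 1) + tri k 1 1 by rw [map_one]; ring]

/-- All the cases at once. -/
theorem exists_polyData [Fintype F] {l k : ℕ} (hl : 1 ≤ l)
    (h0 : k = 0 → l = 1 → 4 ≤ Fintype.card F)
    (h1 : k = 1 → l = 1 → 4 ≤ Fintype.card F)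
    (h2 : 0 < k → (Fintype.card F = 2 → 2 ≤ k ∧ 2 ≤ l ∧ ¬(k = 2 ∧ l = 2))) :
    Nonempty (PolyData F l k) := by
  classical
  have hfour : 4 ≤ Fintype.card F → ∃ t : F, t ≠ 0 ∧ t * t ≠ 1 := by
    intro h
    by_contra hne
    push_neg at hne
    have := Finset.card_le_card (show (Finset.univ : Finset F) ⊆ {0, 1, -1} from fun x _ => by
      by_cases hx : x = 0
      · simp [hx]
      · rcases mul_self_eq_one_iff.1 (hne x hx) with h' | h' <;> simp [h'])
    have h3 := Finset.card_le_three (a := (0 : F)) (b := 1) (c := -1)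
    rw [Finset.card_univ] at this
    omega
  have hc2 : 2 ≤ Fintype.card F := Fintype.one_lt_card
  rcases Nat.eq_zero_or_pos k with rfl | hk
  · rcases Nat.lt_or_ge l 2 with h | h
    · obtain rfl : l = 1 := by omega
      obtain ⟨t, ht, ht'⟩ := hfour (h0 rfl rfl)
      exact exists_polyData_one ht ht'
    · exact exists_polyData_zero h
  rcases Nat.lt_or_ge (Fintype.card F) 3 with hq | hq
  · have hq2 : Fintype.card F = 2 := by omega
    obtain ⟨hk2, hl2, h22⟩ := h2 hk hq2
    have hF : ∀ a : F, a = 0 ∨ a = 1 := by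
      intro a
      by_contra h
      push_neg at h
      have h5 : ({0, 1, a} : Finset F).card = 3 := by
        rw [Finset.card_eq_three]; exact ⟨0, 1, a, zero_ne_one, h.1.symm, h.2.symm, rfl⟩
      have := Finset.card_le_univ ({0, 1, a} : Finset F)
      omega
    rcases le_total k l with hkl | hkl
    · exact exists_polyData_two hF hk2 hkl h22
    · exact ⟨(exists_polyData_two hF hl2 hkl (fun h => h22 ⟨h.2, h.1⟩)).some.swap⟩
  rcases Nat.lt_or_ge l 2 with h | h
  · obtain rfl : l = 1 := by omega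
    rcases Nat.lt_or_ge k 2 with h' | h'
    · obtain rfl : k = 1 := by omega
      obtain ⟨t, ht, ht'⟩ := hfour (h1 rfl rfl)
      exact exists_polyData_one_one ht ht'
    · exact ⟨(exists_polyData_ge_three hq h' (le_refl 1)).some.swap⟩
  · exact exists_polyData_ge_three hq h hk

end Cfsg.Agent.SLComm23
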