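import Cfsg.Agent.Lib.SLComm23.Chain

/-!
Segments: how the companion blocks of `g` are strung together into a good arrangement.
-/

set_option autoImplicit false

namespace Cfsg.Agent.SLComm23

variable {F V : Type*} [Field F] [AddCommGroup V] [Module F V]

/-- A companion block of `g`. -/
structure Block (g : V →ₗ[F] V) where
  d : ℕ
  w : V
  c : F
  hd : 1 ≤ d
  hc : c ≠ 0
  htop : (g ^ d) w - c • w ∈ Submodule.span F ((fun i => (g ^ i) w) '' Set.Ico 1 d)

/-- The subspace of a block. -/
def Block.span {g : V →ₗ[F] V} (b : Block g) : Submodule F V :=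
  Submodule.span F ((fun i => (g ^ i) b.w) '' Set.Iio b.d)

/-- A segment that can be appended to a good arrangement. -/
structure Seg (g : V →ₗ[F] V) where
  s : ℕ
  y : ℕ → V
  pre : ℕ → ℕ
  l : ℕ
  t : ℕ → ℕ
  k : ℕ
  u : ℕ → ℕ
  hl : 0 < l
  hs : l + k = s
  cover : ∀ j, j < s → (∃ i, i < l ∧ t i = j) ∨ (∃ i, i < k ∧ u i = j)
  tlast : t (l - 1) = s - 1
  pre_zero : pre 0 = t 0
  lead : ∀ j, j < s → pre j < s ∧
    ∃ c : F, c ≠ 0 ∧ g (y (pre j)) - c • y j ∈ Submodule.span F (y '' Set.Iio j)
  tstep : ∀ i, i + 1 < l → t i + 1 < s ∧ pre (t i + 1) = t (i + 1)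
  ustep : ∀ i, i + 1 < k → u i + 1 < s ∧ pre (u i + 1) = u (i + 1)
  uend : 0 < k → u (k - 1) + 1 < s ∧ pre (u (k - 1) + 1) = u 0
  utail : ∀ i, 1 ≤ i → i < k → g (y (u i)) ∈ Submodule.span F (y '' Set.Iic (u (k - 1)))

/-- The span of a good arrangement. -/
def Good.span {g : V →ₗ[F] V} (d : Good g) : Submodule F V := Submodule.span F (d.x '' Set.Iio d.n)

/-- The span of a segment. -/
def Seg.span {g : V →ₗ[F] V} (e : Seg g) : Submodule F V := Submodule.span F (e.y '' Set.Iio e.s)

theorem apply_pow {g : V →ₗ[F] V} (i : ℕ) (w : V) : g ((g ^ i) w) = (g ^ (i + 1)) w := by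
  rw [pow_succ', Module.End.mul_apply]

theorem span_shift {x y : ℕ → V} {n : ℕ} (h : ∀ i, x (n + i) = y i) {S T : Set ℕ}
    (hST : ∀ i ∈ S, n + i ∈ T) : Submodule.span F (y '' S) ≤ Submodule.span F (x '' T) :=
  Submodule.span_mono (by rintro _ ⟨i, hi, rfl⟩; exact ⟨n + i, hST i hi, h i⟩)

/-- Appending a segment. -/
def Good.append {g : V →ₗ[F] V} (a : Good g) (e : Seg g) (h : a.k = 0 ∨ e.k = 0) : Good g where
  n := a.n + e.s
  x j := if j < a.n then a.x j else e.y (j - a.n)
  pre j := if j < a.n then a.pre j else a.n + e.pre (j - a.n)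
  l := a.l + e.l
  t i := if i < a.l then a.t i else a.n + e.t (i - a.l)
  k := a.k + e.k
  u i := if i < a.k then a.u i else a.n + e.u (i - a.k)
  hl := by have := a.hl; omega
  hn := by have := a.hn; have := e.hs; omega
  cover j hj hjn := by
    by_cases hja : j < a.n
    · rcases a.cover j hj hja with ⟨i, hi, rfl⟩ | ⟨i, hi, rfl⟩
      · exact .inl ⟨i, by omega, if_pos hi⟩
      · exact .inr ⟨i, by omega, if_pos hi⟩
    · rcases e.cover (j - a.n) (by omega) with ⟨i, hi, hi'⟩ | ⟨i, hi, hi'⟩
      · refine .inl ⟨a.l + i, by omega, ?_⟩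
        rw [if_neg (by omega), Nat.add_sub_cancel_left, hi']; omega
      · refine .inr ⟨a.k + i, by omega, ?_⟩
        rw [if_neg (by omega), Nat.add_sub_cancel_left, hi']; omega
  tlast := by
    have := e.hl; have := e.hs
    rw [if_neg (by omega), show a.l + e.l - 1 - a.l = e.l - 1 by omega, e.tlast]
    omega
  pre_one := by
    have := a.hn; have := a.hl
    rw [if_pos (by omega), a.pre_one]
  lead j hj hjn := by
    by_cases hja : j < a.n
    · obtain ⟨h1, c, hc, h2⟩ := a.lead j hj hja
      rw [if_pos hja]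
      refine ⟨by omega, c, hc, ?_⟩
      rw [if_pos h1, if_pos hja]
      refine Submodule.span_mono ?_ h2
      rintro _ ⟨i, hi, rfl⟩
      exact ⟨i, hi, if_pos (show i < a.n from lt_trans hi hja)⟩
    · obtain ⟨h1, c, hc, h2⟩ := e.lead (j - a.n) (by omega)
      rw [if_neg hja]
      refine ⟨by omega, c, hc, ?_⟩
      rw [if_neg (by omega), Nat.add_sub_cancel_left, if_neg hja]
      refine span_shift (n := a.n) (fun i => ?_) (fun i hi => ?_) h2
      · show (if a.n + i < a.n then a.x (a.n + i) else e.y (a.n + i - a.n)) = e.y i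
        rw [if_neg (by omega), Nat.add_sub_cancel_left]
      · change i < j - a.n at hi
        show a.n + i < j
        omega
  tstep i hi := by
    rcases Nat.lt_trichotomy (i + 1) a.l with h1 | h1 | h1
    · obtain ⟨h2, h3⟩ := a.tstep i h1
      rw [if_pos (by omega), if_pos h1, if_pos h2]
      exact ⟨by omega, h3⟩
    · have := a.hn; have := e.hs; have := e.hl; have := a.tlast
      rw [show a.l - 1 = i by omega] at this
      rw [if_pos (by omega), if_neg (by omega : ¬ i + 1 < a.l), if_neg (by omega),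
        show a.t i + 1 - a.n = 0 by omega, e.pre_zero, show i + 1 - a.l = 0 by omega]
      exact ⟨by omega, rfl⟩
    · obtain ⟨h2, h3⟩ := e.tstep (i - a.l) (by omega)
      rw [if_neg (by omega), if_neg (by omega : ¬ i + 1 < a.l), if_neg (by omega),
        show a.n + e.t (i - a.l) + 1 - a.n = e.t (i - a.l) + 1 by omega, h3,
        show i - a.l + 1 = i + 1 - a.l by omega]
      exact ⟨by omega, rfl⟩
  ustep i hi := by
    rcases Nat.lt_or_ge i a.k with h1 | h1
    · obtain ⟨h2, h3⟩ := a.ustep i (by omega)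
      rw [if_pos h1, if_pos h2, if_pos (by omega : i + 1 < a.k)]
      exact ⟨by omega, h3⟩
    · obtain ⟨h2, h3⟩ := e.ustep (i - a.k) (by omega)
      rw [if_neg (by omega), if_neg (by omega : ¬ i + 1 < a.k), if_neg (by omega),
        show a.n + e.u (i - a.k) + 1 - a.n = e.u (i - a.k) + 1 by omega, h3,
        show i - a.k + 1 = i + 1 - a.k by omega]
      exact ⟨by omega, rfl⟩
  uend hk := by
    rcases h with h | h
    · obtain ⟨h2, h3⟩ := e.uend (by omega)
      simp only [h, Nat.zero_add, Nat.not_lt_zero, if_false, Nat.sub_zero]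
      rw [if_neg (by omega), show a.n + e.u (e.k - 1) + 1 - a.n = e.u (e.k - 1) + 1 by omega, h3]
      exact ⟨by omega, rfl⟩
    · obtain ⟨h2, h3⟩ := a.uend (by omega)
      simp only [h, Nat.add_zero]
      rw [if_pos (by omega : a.k - 1 < a.k), if_pos (by omega : 0 < a.k), if_pos h2]
      exact ⟨by omega, h3⟩
  utail i hi hik := by
    rcases h with h | h
    · simp only [h, Nat.zero_add, Nat.not_lt_zero, if_false, Nat.sub_zero] at hik ⊢
      rw [if_neg (by omega), Nat.add_sub_cancel_left]
      refine span_shift (n := a.n) (fun j => ?_) (fun j hj => ?_) (e.utail i hi hik)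
      · show (if a.n + j < a.n then a.x (a.n + j) else e.y (a.n + j - a.n)) = e.y j
        rw [if_neg (by omega), Nat.add_sub_cancel_left]
      · change j ≤ e.u (e.k - 1) at hj
        show a.n + j ≤ a.n + e.u (e.k - 1)
        omega
    · rw [h, Nat.add_zero] at hik ⊢
      obtain ⟨h2, -⟩ := a.uend (by omega)
      have hui : a.u i < a.n := by
        by_cases hi2 : i + 1 < a.k
        · have := (a.ustep i hi2).1; omega
        · rw [show i = a.k - 1 by omega]; omega
      rw [if_pos hik, if_pos hui, if_pos (by omega : a.k - 1 < a.k)]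
      refine Submodule.span_mono ?_ (a.utail i hi hik)
      rintro _ ⟨m, hm, rfl⟩
      change m ≤ a.u (a.k - 1) at hm
      exact ⟨m, hm, if_pos (by omega)⟩

theorem Good.append_span {g : V →ₗ[F] V} (a : Good g) (e : Seg g) (h : a.k = 0 ∨ e.k = 0) :
    a.span ⊔ e.span ≤ (a.append e h).span := by
  refine sup_le (Submodule.span_mono ?_) (Submodule.span_mono ?_)
  · rintro _ ⟨i, hi, rfl⟩
    exact ⟨i, show i < a.n + e.s from Nat.lt_add_right _ hi, if_pos hi⟩
  · rintro _ ⟨i, hi, rfl⟩
    refine ⟨a.n + i, show a.n + i < a.n + e.s from Nat.add_lt_add_left hi _, ?_⟩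
    show (if a.n + i < a.n then a.x (a.n + i) else e.y (a.n + i - a.n)) = e.y i
    rw [if_neg (by omega), Nat.add_sub_cancel_left]

section Initial

variable {g : V →ₗ[F] V} (b : Block g)

/-- Order of the initial block. -/
def firstX (j : ℕ) : V := if j ≤ 1 then (g ^ j) b.w else (g ^ (b.d + 1 - j)) b.w

/-- Predecessors in the initial block. -/
def firstPre (j : ℕ) : ℕ := if j = 1 then 0 else if j = b.d - 1 then 1 else j + 1

theorem first_lead (j : ℕ) (hj : 1 ≤ j) (hjn : j < b.d) : firstPre b j < b.d ∧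
    ∃ c : F, c ≠ 0 ∧
      g (firstX b (firstPre b j)) - c • firstX b j ∈ Submodule.span F (firstX b '' Set.Iio j) := by
  refine ⟨by unfold firstPre; split_ifs <;> omega, 1, one_ne_zero, ?_⟩
  suffices h : g (firstX b (firstPre b j)) = firstX b j by
    rw [h, one_smul, sub_self]; exact Submodule.zero_mem _
  unfold firstX firstPre
  by_cases h1 : j = 1
  · subst h1
    simp
  by_cases h2 : j = b.d - 1
  · rw [if_neg h1, if_pos h2, if_pos le_rfl, if_neg (by omega), apply_pow]
    congr 2
    omega
  · rw [if_neg h1, if_neg h2, if_neg (by omega), if_neg (by omega), apply_pow]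
    congr 2
    omega

theorem first_span : b.span ≤ Submodule.span F (firstX b '' Set.Iio b.d) := by
  refine Submodule.span_le.2 ?_
  rintro _ ⟨i, hi, rfl⟩
  change i < b.d at hi
  refine Submodule.subset_span ?_
  by_cases h : i ≤ 1
  · exact ⟨i, hi, by rw [firstX, if_pos h]⟩
  · refine ⟨b.d + 1 - i, show b.d + 1 - i < b.d by omega, ?_⟩
    rw [firstX, if_neg (by omega)]
    show _ = (g ^ i) b.w
    congr 2
    omega

/-- An initial block of even size. -/
def Good.ofEven (p : ℕ) (hp : 1 ≤ p) (hb : b.d = 2 * p) : Good g where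
  n := b.d
  x := firstX b
  pre := firstPre b
  l := 2 * p - 1
  t i := if i < p - 1 then 2 + 2 * i else 2 * (i - (p - 1)) + 1
  k := 0
  u := fun _ => 0
  hl := by omega
  hn := by omega
  cover j hj hjn := by
    refine .inl ?_
    rcases Nat.even_or_odd' j with ⟨m, rfl | rfl⟩
    · exact ⟨m - 1, by omega, by rw [if_pos (by omega)]; omega⟩
    · exact ⟨p - 1 + m, by omega, by rw [if_neg (by omega)]; omega⟩
  tlast := by rw [if_neg (by omega)]; omega
  pre_one := rfl
  lead := first_lead b
  tstep i hi := by unfold firstPre; split_ifs <;> omega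
  ustep i hi := absurd hi (by omega)
  uend hk := absurd hk (by omega)
  utail i _ hi := absurd hi (by omega)

/-- An initial block of odd size. -/
def Good.ofOdd (p : ℕ) (hp : 1 ≤ p) (hb : b.d = 2 * p + 1) : Good g where
  n := b.d
  x := firstX b
  pre := firstPre b
  l := p
  t i := 2 + 2 * i
  k := p
  u i := 2 * i + 1
  hl := by omega
  hn := by omega
  cover j hj hjn := by
    rcases Nat.even_or_odd' j with ⟨m, rfl | rfl⟩
    · exact .inl ⟨m - 1, by omega, by omega⟩
    · exact .inr ⟨m, by omega, by omega⟩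
  tlast := by omega
  pre_one := rfl
  lead := first_lead b
  tstep i hi := by unfold firstPre; split_ifs <;> omega
  ustep i hi := by unfold firstPre; split_ifs <;> omega
  uend hk := by unfold firstPre; split_ifs <;> omega
  utail i hi hik := by
    refine Submodule.subset_span ⟨2 * i, show 2 * i ≤ 2 * (p - 1) + 1 by omega, ?_⟩
    unfold firstX
    rw [if_neg (by omega), if_neg (by omega), apply_pow]
    congr 2
    omega

end Initial

section Single

variable {g : V →ₗ[F] V} (b : Block g)

/-- Order of a single block. -/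
def oneY (j : ℕ) : V := (g ^ (b.d - 1 - j)) b.w

/-- Predecessors in a single block. -/
def onePre (j : ℕ) : ℕ := if j + 1 < b.d then j + 1 else 0

theorem one_lead (j : ℕ) (hj : j < b.d) : onePre b j < b.d ∧
    ∃ c : F, c ≠ 0 ∧ g (oneY b (onePre b j)) - c • oneY b j ∈ Submodule.span F (oneY b '' Set.Iio j) := by
  have := b.hd
  refine ⟨by unfold onePre; split_ifs <;> omega, ?_⟩
  by_cases h : j + 1 < b.d
  · refine ⟨1, one_ne_zero, ?_⟩
    rw [onePre, if_pos h, oneY, oneY, apply_pow, show b.d - 1 - (j + 1) + 1 = b.d - 1 - j by omega,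
      one_smul, sub_self]
    exact Submodule.zero_mem _
  · refine ⟨b.c, b.hc, ?_⟩
    rw [onePre, if_neg h, oneY, oneY, apply_pow, show b.d - 1 - 0 + 1 = b.d by omega,
      show b.d - 1 - j = 0 by omega, pow_zero, Module.End.one_apply]
    refine Submodule.span_mono ?_ b.htop
    rintro _ ⟨i, ⟨hi1, hi2⟩, rfl⟩
    refine ⟨b.d - 1 - i, show b.d - 1 - i < j by omega, ?_⟩
    show (g ^ (b.d - 1 - (b.d - 1 - i))) b.w = (g ^ i) b.w
    rw [show b.d - 1 - (b.d - 1 - i) = i by omega]

theorem one_span : b.span ≤ Submodule.span F (oneY b '' Set.Iio b.d) := by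
  refine Submodule.span_le.2 ?_
  rintro _ ⟨i, hi, rfl⟩
  change i < b.d at hi
  refine Submodule.subset_span ⟨b.d - 1 - i, show b.d - 1 - i < b.d by omega, ?_⟩
  show (g ^ (b.d - 1 - (b.d - 1 - i))) b.w = (g ^ i) b.w
  rw [show b.d - 1 - (b.d - 1 - i) = i by omega]

/-- A block of odd size. -/
def Seg.ofOdd (p : ℕ) (hb : b.d = 2 * p + 1) : Seg g where
  s := b.d
  y := oneY b
  pre := onePre b
  l := 2 * p + 1
  t i := if i < p then 2 * i + 1 else 2 * (i - p)
  k := 0
  u := fun _ => 0
  hl := by omega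
  hs := by omega
  cover j hj := by
    refine .inl ?_
    rcases Nat.even_or_odd' j with ⟨m, rfl | rfl⟩
    · exact ⟨p + m, by omega, by rw [if_neg (by omega)]; omega⟩
    · exact ⟨m, by omega, by rw [if_pos (by omega)]⟩
  tlast := by rw [if_neg (by omega)]; omega
  pre_zero := by unfold onePre; split_ifs <;> omega
  lead := one_lead b
  tstep i hi := by unfold onePre; split_ifs <;> omega
  ustep i hi := absurd hi (by omega)
  uend hk := absurd hk (by omega)
  utail i _ hi := absurd hi (by omega)

/-- An isolated block of even size. -/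
def Seg.ofEven (p : ℕ) (hp : 1 ≤ p) (hb : b.d = 2 * p) : Seg g where
  s := b.d
  y := oneY b
  pre := onePre b
  l := p
  t i := 2 * i + 1
  k := p
  u i := 2 * i
  hl := by omega
  hs := by omega
  cover j hj := by
    rcases Nat.even_or_odd' j with ⟨m, rfl | rfl⟩
    · exact .inr ⟨m, by omega, rfl⟩
    · exact .inl ⟨m, by omega, rfl⟩
  tlast := by omega
  pre_zero := by unfold onePre; split_ifs <;> omega
  lead := one_lead b
  tstep i hi := by unfold onePre; split_ifs <;> omega
  ustep i hi := by unfold onePre; split_ifs <;> omega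
  uend hk := by unfold onePre; split_ifs <;> omega
  utail i hi hik := by
    refine Submodule.subset_span ⟨2 * i - 1, show 2 * i - 1 ≤ 2 * (p - 1) by omega, ?_⟩
    unfold oneY
    rw [apply_pow]
    congr 2
    omega

end Single

section Pair

variable {g : V →ₗ[F] V} (a b : Block g)

/-- Order of two blocks. -/
def twoY (j : ℕ) : V :=
  if j < a.d - 1 then (g ^ (a.d - 1 - j)) a.w
  else if j < a.d + b.d - 2 then (g ^ (a.d + b.d - 2 - j)) b.w
  else if j = a.d + b.d - 2 then a.w else b.w

/-- Predecessors for two blocks. -/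
def twoPre (j : ℕ) : ℕ :=
  if j < a.d - 2 then j + 1
  else if j = a.d - 2 then a.d + b.d - 2
  else if j < a.d + b.d - 3 then j + 1
  else if j = a.d + b.d - 3 then a.d + b.d - 1
  else if j = a.d + b.d - 2 then 0
  else a.d - 1

theorem two_lead (ha : 2 ≤ a.d) (hb : 2 ≤ b.d) (j : ℕ) (hj : j < a.d + b.d) : twoPre a b j < a.d + b.d ∧
    ∃ c : F, c ≠ 0 ∧
      g (twoY a b (twoPre a b j)) - c • twoY a b j ∈ Submodule.span F (twoY a b '' Set.Iio j) := by
  refine ⟨by unfold twoPre; split_ifs <;> omega, ?_⟩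
  by_cases h4 : j = a.d + b.d - 2
  · refine ⟨a.c, a.hc, ?_⟩
    have e1 : twoPre a b j = 0 := by unfold twoPre; split_ifs <;> omega
    have e2 : twoY a b j = a.w := by
      unfold twoY; rw [if_neg (by omega), if_neg (by omega), if_pos h4]
    have e3 : g (twoY a b 0) = (g ^ a.d) a.w := by
      unfold twoY; rw [if_pos (by omega), apply_pow, show a.d - 1 - 0 + 1 = a.d by omega]
    rw [e1, e2, e3]
    refine Submodule.span_mono ?_ a.htop
    rintro _ ⟨i, ⟨hi1, hi2⟩, rfl⟩
    refine ⟨a.d - 1 - i, show a.d - 1 - i < j by omega, ?_⟩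
    unfold twoY
    rw [if_pos (by omega)]
    show _ = (g ^ i) a.w
    rw [show a.d - 1 - (a.d - 1 - i) = i by omega]
  by_cases h5 : j = a.d + b.d - 1
  · refine ⟨b.c, b.hc, ?_⟩
    have e1 : twoPre a b j = a.d - 1 := by unfold twoPre; split_ifs <;> omega
    have e2 : twoY a b j = b.w := by
      unfold twoY; rw [if_neg (by omega), if_neg (by omega), if_neg h4]
    have e3 : g (twoY a b (a.d - 1)) = (g ^ b.d) b.w := by
      unfold twoY
      rw [if_neg (by omega), if_pos (by omega), apply_pow,
        show a.d + b.d - 2 - (a.d - 1) + 1 = b.d by omega]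
    rw [e1, e2, e3]
    refine Submodule.span_mono ?_ b.htop
    rintro _ ⟨i, ⟨hi1, hi2⟩, rfl⟩
    refine ⟨a.d + b.d - 2 - i, show a.d + b.d - 2 - i < j by omega, ?_⟩
    unfold twoY
    rw [if_neg (by omega), if_pos (by omega)]
    show _ = (g ^ i) b.w
    rw [show a.d + b.d - 2 - (a.d + b.d - 2 - i) = i by omega]
  refine ⟨1, one_ne_zero, ?_⟩
  suffices h : g (twoY a b (twoPre a b j)) = twoY a b j by
    rw [h, one_smul, sub_self]; exact Submodule.zero_mem _
  unfold twoY twoPre
  by_cases h1 : j < a.d - 2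
  · rw [if_pos h1, if_pos (by omega), if_pos (by omega), apply_pow]; congr 2; omega
  by_cases h2 : j = a.d - 2
  · rw [if_neg h1, if_pos h2, if_neg (by omega), if_neg (by omega), if_pos rfl, if_pos (by omega),
      show a.d - 1 - j = 1 by omega, pow_one]
  by_cases h3 : j < a.d + b.d - 3
  · rw [if_neg h1, if_neg h2, if_pos h3, if_neg (by omega), if_pos (by omega), if_neg (by omega),
      if_pos (by omega), apply_pow]
    congr 2; omega
  · rw [if_neg h1, if_neg h2, if_neg h3, if_pos (show j = a.d + b.d - 3 by omega)]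
    rw [if_neg (by omega : ¬ a.d + b.d - 1 < a.d - 1), if_neg (by omega : ¬ a.d + b.d - 1 < a.d + b.d - 2),
      if_neg (by omega : ¬ a.d + b.d - 1 = a.d + b.d - 2), if_neg (by omega : ¬ j < a.d - 1),
      if_pos (by omega : j < a.d + b.d - 2), show a.d + b.d - 2 - j = 1 by omega, pow_one]

theorem two_span (ha : 2 ≤ a.d) (hb : 2 ≤ b.d) :
    a.span ⊔ b.span ≤ Submodule.span F (twoY a b '' Set.Iio (a.d + b.d)) := by
  refine sup_le (Submodule.span_le.2 ?_) (Submodule.span_le.2 ?_)
  · rintro _ ⟨i, hi, rfl⟩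
    change i < a.d at hi
    refine Submodule.subset_span ?_
    by_cases h : i = 0
    · refine ⟨a.d + b.d - 2, show a.d + b.d - 2 < a.d + b.d by omega, ?_⟩
      unfold twoY
      rw [if_neg (by omega), if_neg (by omega), if_pos rfl]
      subst h; simp
    · refine ⟨a.d - 1 - i, show a.d - 1 - i < a.d + b.d by omega, ?_⟩
      unfold twoY
      rw [if_pos (by omega)]
      show _ = (g ^ i) a.w
      rw [show a.d - 1 - (a.d - 1 - i) = i by omega]
  · rintro _ ⟨i, hi, rfl⟩
    change i < b.d at hi
    refine Submodule.subset_span ?_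
    by_cases h : i = 0
    · refine ⟨a.d + b.d - 1, show a.d + b.d - 1 < a.d + b.d by omega, ?_⟩
      unfold twoY
      rw [if_neg (by omega), if_neg (by omega), if_neg (by omega)]
      subst h; simp
    · refine ⟨a.d + b.d - 2 - i, show a.d + b.d - 2 - i < a.d + b.d by omega, ?_⟩
      unfold twoY
      rw [if_neg (by omega), if_pos (by omega)]
      show _ = (g ^ i) b.w
      rw [show a.d + b.d - 2 - (a.d + b.d - 2 - i) = i by omega]

set_option maxHeartbeats 2000000 in
/-- Two blocks of even sizes. -/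
def Seg.ofPair (p r : ℕ) (hp : 1 ≤ p) (hr : 1 ≤ r) (ha : a.d = 2 * p) (hb : b.d = 2 * r) : Seg g where
  s := a.d + b.d
  y := twoY a b
  pre := twoPre a b
  l := 2 * p + 2 * r
  t i :=
    if i < p - 1 then 2 * i + 1
    else if i = p - 1 then 2 * p + 2 * r - 2
    else if i < p + r then 2 * (i - p) + (2 * p - 1)
    else if i < 2 * p + r then 2 * (i - p - r)
    else if i < 2 * p + 2 * r - 1 then 2 * (i - 2 * p - r) + 2 * p
    else 2 * p + 2 * r - 1
  k := 0
  u := fun _ => 0
  hl := by omega
  hs := by omega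
  cover j hj := by
    refine .inl ?_
    by_cases h1 : j = 2 * p + 2 * r - 2
    · exact ⟨p - 1, by omega, by rw [if_neg (by omega), if_pos rfl, h1]⟩
    by_cases h2 : j = 2 * p + 2 * r - 1
    · exact ⟨2 * p + 2 * r - 1, by omega, by rw [h2]; split_ifs <;> omega⟩
    rcases Nat.even_or_odd' j with ⟨m, rfl | rfl⟩
    · by_cases h3 : 2 * m < 2 * p - 1
      · exact ⟨p + r + m, by omega, by split_ifs <;> omega⟩
      · exact ⟨2 * p + r + (m - p), by omega, by split_ifs <;> omega⟩
    · by_cases h3 : 2 * m + 1 < 2 * p - 1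
      · exact ⟨m, by omega, by split_ifs <;> omega⟩
      · exact ⟨p + (m - (p - 1)), by omega, by split_ifs <;> omega⟩
  tlast := by split_ifs <;> omega
  pre_zero := by unfold twoPre; split_ifs <;> omega
  lead := two_lead a b (by omega) (by omega)
  tstep i hi := by unfold twoPre; split_ifs <;> omega
  ustep i hi := absurd hi (by omega)
  uend hk := absurd hk (by omega)
  utail i _ hi := absurd hi (by omega)

end Pair

end Cfsg.Agent.SLComm23
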